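import Groth.Agent.H82.R2.CorootChar.Kernel
import Mathlib.LinearAlgebra.RootSystem.Finite.Nondegenerate

/-!
# The root lattice and the common kernel of the coroots
-/

set_option autoImplicit false
set_option linter.style.haveILetI false
set_option linter.unusedSectionVars false
universe u

open CategoryTheory MonoidalCategory CartesianMonoidalCategory MonObj GrpObj AlgebraicGeometry

namespace Groth.Agent.H82.R2.Radical

variable {S : Scheme.{u}} {G : Over S} [GrpObj G] (D : Red.SplitRed G)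

/-- The root lattice. -/
def rootLat : AddSubgroup D.M := (D.P.rootSpan ℤ).toAddSubgroup

/-- The characters with a multiple in the root lattice. -/
def satLat : AddSubgroup D.M where
  carrier := {m | ∃ n : ℕ, 0 < n ∧ n • m ∈ rootLat D}
  zero_mem' := ⟨1, Nat.one_pos, by rw [nsmul_zero]; exact zero_mem _⟩
  add_mem' := fun {a c} ⟨p, hp, ha⟩ ⟨q, hq, hc⟩ => ⟨p * q, Nat.mul_pos hp hq, by
    rw [nsmul_add, mul_comm p q, mul_nsmul' a q p, mul_comm q p, mul_nsmul' c p q]
    exact add_mem (nsmul_mem ha _) (nsmul_mem hc _)⟩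
  neg_mem' := fun {a} ⟨p, hp, ha⟩ => ⟨p, hp, by rw [neg_nsmul]; exact neg_mem ha⟩

variable {D}

theorem root_mem (a : D.idx) : D.P.root a ∈ rootLat D := Submodule.subset_span ⟨a, rfl⟩

theorem mem_satLat {m : D.M} : m ∈ satLat D ↔ ∃ n : ℕ, 0 < n ∧ n • m ∈ rootLat D := Iff.rfl

theorem rootLat_le : rootLat D ≤ satLat D := fun m hm => ⟨1, Nat.one_pos, by rwa [one_nsmul]⟩

theorem isTorsionFree_sat : Module.IsTorsionFree ℤ (D.M ⧸ satLat D) := by
  refine Module.IsTorsionFree.mk fun r hr => ?_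
  intro q q' h
  change r • q = r • q' at h
  have h' : r • (q - q') = 0 := by rw [smul_sub, h, sub_self]
  obtain ⟨m, hm⟩ := QuotientAddGroup.mk'_surjective (satLat D) (q - q')
  rw [← hm, ← map_zsmul, QuotientAddGroup.mk'_apply, QuotientAddGroup.eq_zero_iff] at h'
  obtain ⟨n, hn, hmem⟩ := h'
  have hr' : r ≠ 0 := hr.ne_zero
  have h2 : m ∈ satLat D := by
    refine ⟨n * r.natAbs, Nat.mul_pos hn (Int.natAbs_pos.2 hr'), ?_⟩
    rw [mul_nsmul']
    rcases Int.natAbs_eq r with hr2 | hr2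
    · rwa [hr2, natCast_zsmul] at hmem
    · rw [hr2, neg_zsmul, natCast_zsmul, neg_nsmul] at hmem
      exact neg_mem_iff.1 hmem
  have : q - q' = 0 := by rw [← hm]; exact (QuotientAddGroup.eq_zero_iff _).2 h2
  exact sub_eq_zero.1 this

theorem finite_sat : Module.Finite ℤ (D.M ⧸ satLat D) :=
  Module.Finite.of_surjective (QuotientAddGroup.mk' (satLat D)).toIntLinearMap (QuotientAddGroup.mk'_surjective _)

theorem free_sat : Module.Free ℤ (D.M ⧸ satLat D) := by
  haveI := isTorsionFree_sat (D := D)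
  haveI := finite_sat (D := D)
  exact Module.free_of_finite_type_torsion_free'

theorem coroot_eq (a : D.idx) (x : D.M) : D.P.coroot' a x = D.P.coroot a x := by
  rw [RootPairing.coroot', LinearMap.flip_apply, D.pairing_eq]; rfl

variable {N : AddSubgroup D.M} (hN : ∀ m : D.M, m ∈ N ↔ ∀ a : D.idx, D.P.coroot a m = 0)

include hN in
theorem sat_inf_eq_zero {m : D.M} (hm : m ∈ satLat D) (hm' : m ∈ N) : m = 0 := by
  classical
  obtain ⟨n, hn, h⟩ := hm
  have h0 : n • m = 0 := D.P.eq_zero_of_mem_rootSpan_of_rootForm_self_eq_zero h (by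
    rw [D.P.rootForm_apply_apply]
    refine Finset.sum_eq_zero fun c _ => ?_
    rw [coroot_eq, (hN _).1 (nsmul_mem hm' n) c, zero_mul])
  haveI : IsAddTorsionFree D.M := .of_isTorsionFree ℤ D.M
  exact (nsmul_eq_zero_iff_right hn.ne').1 h0

include hN in
/-- Up to torsion, every character is the sum of a root-lattice element and a coroot-killed one. -/
theorem exists_decomp (m : D.M) : ∃ (d : ℕ) (q : D.M), 0 < d ∧ q ∈ rootLat D ∧ d • m - q ∈ N := by
  classical
  let V := D.P.rootSpan ℤ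
  let Φ : D.M →ₗ[ℤ] Module.Dual ℤ V := (LinearMap.lcomp ℤ ℤ V.subtype).comp D.P.RootForm
  have hΦ : ∀ (x : D.M) (y : V), Φ x y = D.P.RootForm x y := fun _ _ => rfl
  let ψ : V →ₗ[ℤ] Module.Dual ℤ V := Φ.comp V.subtype
  have hinj : Function.Injective ψ := (injective_iff_map_eq_zero _).2 fun v hv => Subtype.ext
    (D.P.eq_zero_of_mem_rootSpan_of_rootForm_self_eq_zero v.2 (LinearMap.congr_fun hv v))
  have hrk : Module.finrank ℤ (LinearMap.range ψ) = Module.finrank ℤ (Module.Dual ℤ V) := by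
    rw [LinearMap.finrank_range_of_inj hinj, Module.finrank_linearMap, Module.finrank_self, _root_.mul_one]
  have htors : Module.finrank ℤ (Module.Dual ℤ V ⧸ LinearMap.range ψ) = 0 := by
    have := Submodule.finrank_quotient_add_finrank (LinearMap.range ψ)
    omega
  obtain ⟨r, hr, hrm⟩ : ∃ r : ℤ, r ≠ 0 ∧ r • (LinearMap.range ψ).mkQ (Φ m) = 0 :=
    (Module.finrank_eq_zero_iff.1 htors) _
  rw [← map_zsmul, Submodule.mkQ_apply, Submodule.Quotient.mk_eq_zero] at hrm
  have hrm' : (r.natAbs : ℤ) • Φ m ∈ LinearMap.range ψ := by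
    rcases Int.natAbs_eq r with h | h
    · rwa [← h]
    · rw [show (r.natAbs : ℤ) = -r by omega, neg_zsmul]
      exact neg_mem hrm
  obtain ⟨v, hv⟩ := hrm'
  refine ⟨r.natAbs, v.1, Int.natAbs_pos.2 hr, v.2, (hN _).2 fun a => ?_⟩
  set x := r.natAbs • m - v.1
  have hx : D.P.RootForm x (D.P.root a) = 0 := by
    have h2 := LinearMap.congr_fun hv ⟨D.P.root a, Submodule.subset_span ⟨a, rfl⟩⟩
    simp only [ψ, LinearMap.comp_apply, Submodule.subtype_apply, LinearMap.smul_apply, hΦ] at h2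
    simp only [x, map_sub, map_nsmul, LinearMap.sub_apply, LinearMap.smul_apply, h2]
    simp
  have hself : D.P.RootForm (D.P.root a) (D.P.root a) ≠ 0 := fun h =>
    D.P.ne_zero a (D.P.eq_zero_of_mem_rootSpan_of_rootForm_self_eq_zero (Submodule.subset_span ⟨a, rfl⟩) h)
  have h3 := congrArg (D.P.toLinearMap x) (D.P.rootForm_self_smul_coroot a)
  rw [map_smul, map_nsmul, D.P.toLinearMap_apply_apply_Polarization, show D.P.RootForm (D.P.root a) x = 0 from hx ▸ (D.P.rootForm_symmetric.eq (D.P.root a) x),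
    nsmul_zero, smul_eq_mul, mul_eq_zero] at h3
  rw [← coroot_eq]
  exact h3.resolve_left hself

end Groth.Agent.H82.R2.Radical
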