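import Groth.Agent.H82.R2.CorootChar.Kernel
import Groth.Agent.H82.Contract.Gen
import Groth.Agent.H1.Classical.RadUApply
import Groth.Agent.Lib.GrpQ.Kernel
import Groth.Agent.Lib.MTExt.Torsion
import Groth.Agent.Lib.GrpSch.BaseChange
import Groth.Agent.Lib.Tori.Comm

/-!
# The derived group of a split group is split
-/

set_option autoImplicit false
set_option linter.style.haveILetI false
set_option linter.unusedSectionVars false
universe u

open CategoryTheory MonoidalCategory CartesianMonoidalCategory MonObj GrpObj AlgebraicGeometry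
open Groth.Agent.Lib.RedPts Groth.Agent.H82.BigCell Groth.Agent.H82.Contract Groth.Agent.H82.Weyl
open Groth.Agent.H82.RankOne (P P_eq P_add P_zero P_neg P_comp)

namespace Groth.Agent.H82.R2.CorootChar

variable {S : Scheme.{u}} {G : Over S} [GrpObj G]

section Datum

variable {D : Red.SplitRed G} {N : AddSubgroup D.M} (hN : ∀ m : D.M, m ∈ N ↔ ∀ a : D.idx, D.P.coroot a m = 0)

/-- A coroot on the quotient by their common kernel. -/
noncomputable def qCoroot (a : D.idx) : Module.Dual ℤ (D.M ⧸ N) :=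
  (QuotientAddGroup.lift N (D.P.coroot a).toAddMonoidHom fun m hm => (hN m).1 hm a).toIntLinearMap

theorem qCoroot_mk (a : D.idx) (m : D.M) : qCoroot hN a (QuotientAddGroup.mk' N m) = D.P.coroot a m := rfl

include hN in
theorem qRoot_injective : Function.Injective fun a => QuotientAddGroup.mk' N (D.P.root a) := fun a b h => by
  classical
  have hx : D.P.root a - D.P.root b ∈ N := (QuotientAddGroup.eq_iff_sub_mem (N := N)).1 h
  have h0 : D.P.root a - D.P.root b = 0 := D.P.eq_zero_of_mem_rootSpan_of_rootForm_self_eq_zero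
    (Submodule.sub_mem _ (Submodule.subset_span ⟨a, rfl⟩) (Submodule.subset_span ⟨b, rfl⟩))
    (by
      rw [D.P.rootForm_apply_apply]
      refine Finset.sum_eq_zero fun c _ => ?_
      rw [show D.P.coroot' c (D.P.root a - D.P.root b) = D.P.coroot c (D.P.root a - D.P.root b) by
        rw [RootPairing.coroot', LinearMap.flip_apply, D.pairing_eq]; rfl, (hN _).1 hx c, zero_mul])
  exact D.P.root.injective (sub_eq_zero.1 h0)

include hN in
/-- The root datum of the derived group. -/
noncomputable def qPairing [Module.Free ℤ (D.M ⧸ N)] [Module.Finite ℤ (D.M ⧸ N)] :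
    RootPairing D.idx ℤ (D.M ⧸ N) (Module.Dual ℤ (D.M ⧸ N)) where
  toLinearMap := Module.Dual.eval ℤ (D.M ⧸ N)
  root := ⟨fun a => QuotientAddGroup.mk' N (D.P.root a), qRoot_injective hN⟩
  coroot := ⟨qCoroot hN, fun a b h => D.P.coroot.injective
    (LinearMap.ext fun m => by rw [← qCoroot_mk hN a m, h, qCoroot_mk])⟩
  root_coroot_two a := by
    change qCoroot hN a (QuotientAddGroup.mk' N (D.P.root a)) = 2
    have := D.P.root_coroot_two a
    rw [D.pairing_eq] at this
    exact this
  reflectionPerm := D.P.reflectionPerm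
  reflectionPerm_root i j := by
    have h := D.P.reflectionPerm_root i j
    rw [D.pairing_eq] at h
    change QuotientAddGroup.mk' N (D.P.root j) - qCoroot hN i (QuotientAddGroup.mk' N (D.P.root j)) • QuotientAddGroup.mk' N (D.P.root i) = QuotientAddGroup.mk' N (D.P.root (D.P.reflectionPerm i j))
    rw [qCoroot_mk, ← map_zsmul, ← map_sub, ← h]
    rfl
  reflectionPerm_coroot i j := by
    have h := D.P.reflectionPerm_coroot i j
    rw [D.pairing_eq] at h
    refine LinearMap.ext fun q => ?_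
    obtain ⟨m, rfl⟩ := QuotientAddGroup.mk'_surjective N q
    change qCoroot hN j (QuotientAddGroup.mk' N m) - qCoroot hN j (QuotientAddGroup.mk' N (D.P.root i)) * qCoroot hN i (QuotientAddGroup.mk' N m) = qCoroot hN (D.P.reflectionPerm i j) (QuotientAddGroup.mk' N m)
    simp only [qCoroot_mk]
    exact LinearMap.congr_fun h m

include hN in
/-- A regular functional killed by `N`. -/
theorem exists_regular_quot : ∃ l : D.M →+ ℤ, (∀ m ∈ N, l m = 0) ∧ ∀ a, l (D.P.root a) ≠ 0 := by
  classical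
  let ix := Fintype.equivFin D.idx
  let q : D.idx → Polynomial ℤ := fun a => ∑ c : D.idx, Polynomial.monomial (ix c : ℕ) (D.P.coroot c (D.P.root a))
  have h2 : ∀ a, D.P.coroot a (D.P.root a) = 2 := fun a => by
    have := D.P.root_coroot_two a
    rw [D.pairing_eq] at this
    exact this
  have hq : ∀ a, q a ≠ 0 := fun a h => by
    have h3 := congrArg (fun r => Polynomial.coeff r (ix a : ℕ)) h
    simp only [q, Polynomial.finsetSum_coeff, Polynomial.coeff_monomial, Polynomial.coeff_zero] at h3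
    rw [Finset.sum_eq_single a (fun k _ hk => if_neg fun h => hk (ix.injective (Fin.ext h)))
      (fun h => absurd (Finset.mem_univ a) h), if_pos rfl, h2] at h3
    exact two_ne_zero h3
  obtain ⟨z, hz⟩ := Infinite.exists_notMem_finset (Finset.univ.biUnion fun a => (q a).roots.toFinset)
  refine ⟨(∑ c : D.idx, (z ^ (ix c : ℕ)) • D.P.coroot c).toAddMonoidHom, fun m hm => ?_, fun a ha => hz ?_⟩
  · simp [(hN m).1 hm]
  refine Finset.mem_biUnion.2 ⟨a, Finset.mem_univ a, Multiset.mem_toFinset.2 ((Polynomial.mem_roots (hq a)).2 ?_)⟩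
  rw [Polynomial.IsRoot.def, ← ha, Polynomial.eval_finsetSum]
  simp [Polynomial.eval_monomial, mul_comm]

end Datum

section Group

variable {D : Red.SplitRed G} {N : AddSubgroup D.M} (hN : ∀ m : D.M, m ∈ N ↔ ∀ a : D.idx, D.P.coroot a m = 0)
variable {b : D.P.Base} {n m : ℕ} {eneg : Fin n → D.idx} {epos : Fin m → D.idx}
  (hneg : RedSub.Enumerates (RedSub.negRoots D.P b) eneg) (hpos : RedSub.Enumerates (RedSub.posRoots D.P b) epos)

include hN hneg hpos in
/-- A subgroup killed by commutative groups which is the kernel of a homomorphism to a commutative group is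
the kernel of the homomorphism to `D(N)`. -/
theorem isKernel_of_killed {D' : Over S} [GrpObj D'] (d : D' ⟶ G) [IsMonHom d]
    (hker : ∃ (C : Over S) (_ : GrpObj C) (f₀ : G ⟶ C), IsMonHom f₀ ∧ (∀ (X : Over S) (a b : X ⟶ C), a * b = b * a) ∧
      AlgGrp.IsKernel d f₀)
    (hkill : RedSub.KilledByCommutative d) :
    AlgGrp.IsKernel d (extend (quotSetup hN b eneg epos hneg hpos)) := by
  obtain ⟨C, _, f₀, hf₀, hC, hd⟩ := hker
  haveI := hf₀
  set f := extend (quotSetup hN b eneg epos hneg hpos) with hf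
  haveI : IsMonHom f := isMonHom_extend _
  obtain ⟨K, _, k, hk, hkc, hker', -⟩ := Groth.Agent.Lib.GrpQ.exists_kernel f
  haveI := hk
  have hcomm : ∀ (X : Over S) (a c : X ⟶ Red.DS S ↥N), a * c = c * a := fun X a c =>
    Gm.dsFn_ext fun r => by rw [Gm.dsFn_mul, Gm.dsFn_mul, _root_.mul_comm]
  have h1 : d ≫ f = 1 := hkill (Red.DS S ↥N) f hcomm
  have h2 : k ≫ f₀ = 1 := killed_ker hN hneg hpos hker' C f₀ hC
  obtain ⟨a, ha⟩ : ∃ a : D' ⟶ K, a ≫ k = d := exists_lift_ker hN hneg hpos hker' h1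
  have h2' : k ≫ f₀ = toUnit K ≫ η[C] := h2
  have hc : hd.lift k (toUnit K) h2' ≫ d = k := hd.lift_fst _ _ _
  set c := hd.lift k (toUnit K) h2'
  haveI := mono_ker hN hneg hpos hker'
  haveI : Mono d := by
    haveI : Mono η[C] := ⟨fun a a' _ => toUnit_unique a a'⟩
    exact MorphismProperty.of_isPullback (P := MorphismProperty.monomorphisms (Over S)) hd.flip
      (MorphismProperty.monomorphisms.infer_property _)
  let e : D' ≅ K := ⟨a, c, (cancel_mono d).1 (by rw [Category.assoc, hc, ha, Category.id_comp]),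
    (cancel_mono k).1 (by rw [Category.assoc, ha, hc, Category.id_comp])⟩
  exact IsPullback.of_iso hker' e.symm (Iso.refl _) (Iso.refl _) (Iso.refl _) (by simp [e, hc])
    (toUnit_unique _ _) (by simp [hf]) (by simp)

variable {D' : Over S} [GrpObj D'] {d : D' ⟶ G} [IsMonHom d]
  (hk : AlgGrp.IsKernel d (extend (quotSetup hN b eneg epos hneg hpos)))

include hk in
theorem isClosedImmersion_d : IsClosedImmersion d.left := by
  haveI : IsClosedImmersion (η[Red.DS S ↥N].left ≫ (Red.DS S ↥N).hom) := by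
    rw [show η[Red.DS S ↥N].left ≫ (Red.DS S ↥N).hom = (𝟙_ (Over S)).hom from Over.w η[Red.DS S ↥N]]
    exact inferInstanceAs (IsClosedImmersion (𝟙 S))
  haveI : IsClosedImmersion η[Red.DS S ↥N].left := IsClosedImmersion.of_comp _ (Red.DS S ↥N).hom
  exact MorphismProperty.of_isPullback (P := @IsClosedImmersion) (hk.map (Over.forget S)).flip ‹IsClosedImmersion η[Red.DS S ↥N].left›

include hk in
theorem isNormalHom_d : AlgGrp.IsNormalHom d := fun X g x => by
  haveI : IsMonHom (extend (quotSetup hN b eneg epos hneg hpos)) := isMonHom_extend _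
  obtain ⟨x', hx'⟩ := exists_lift_ker hN hneg hpos hk (p := g * (x ≫ d) * g⁻¹) (by
    rw [MonObj.mul_comp, MonObj.mul_comp, comp_ker hN hneg hpos hk x, _root_.mul_one, ← MonObj.mul_comp,
      mul_inv_cancel, MonObj.one_comp])
  exact ⟨x', hx'.symm⟩

include hN hneg hpos hk in
theorem isReductive_derived : Red.IsReductive D' := by
  haveI := isClosedImmersion_d hN hneg hpos hk
  haveI := isAffineHom D
  haveI hs : Smooth D'.hom := smooth_ker hN hneg hpos hk
  haveI : IsAffineHom D'.hom := by rw [← Over.w d]; infer_instance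
  refine ⟨inferInstance, hs, fun s => ?_⟩
  haveI : IsMonHom ((Over.pullback (Red.geomPt s)).map d) := inferInstance
  haveI : IsClosedImmersion ((Over.pullback (Red.geomPt s)).map d).left :=
    Groth.Agent.Lib.GrpSch.bc_map_left_of (Red.geomPt s) (P := @IsClosedImmersion) d inferInstance
  haveI : Smooth (Red.geomFibre s D').hom := inferInstanceAs (Smooth (Limits.pullback.snd D'.hom (Red.geomPt s)))
  haveI : IrreducibleSpace (D' ⊗ Over.mk (Red.geomPt s) : Over S).left :=
    Groth.Agent.Lib.ActSep.irreducibleSpace_geomFibre (connected_ker hN hneg hpos hk) (Red.geomPt s)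
  haveI : IrreducibleSpace (Red.geomFibre s D').left :=
    inferInstanceAs (IrreducibleSpace (D' ⊗ Over.mk (Red.geomPt s) : Over S).left)
  refine Groth.Agent.H1.Classical.RadU.isReductiveOver_normal (D.reductive.2.2 s) ((Over.pullback (Red.geomPt s)).map d) ?_
  intro X g x
  obtain ⟨x', hx'⟩ := isNormalHom_d hN hneg hpos hk _ (BC.down _ g) (BC.down _ x)
  refine ⟨BC.up _ x', BC.down_injective ?_⟩
  rw [BC.down_mul, BC.down_mul, BC.down_inv, BC.down_map, BC.down_map, BC.down_up, hx']

include hN in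
theorem isMonHom_fromQuot : IsMonHom (fromQuot D N) :=
  Groth.Agent.H87.HomDS.isMonHom_of_points (fromQuot D N) fun X x y => ext_dsFn fun k => by
    haveI : IsMonHom (show D.T ⟶ Red.DS S D.M from D.split.hom.hom.hom) := D.split.hom.hom.isMonHom_hom
    have e : ∀ z : X ⟶ Red.DS S (D.M ⧸ N), (z ≫ fromQuot D N) ≫ D.split.hom.hom.hom =
        z ≫ Red.DSmap S (QuotientAddGroup.mk' N) := fun z => by
      rw [fromQuot, Category.assoc, Category.assoc, split_inv_hom, Category.comp_id]
    rw [show (x ≫ fromQuot D N * (y ≫ fromQuot D N)) ≫ D.split.hom.hom.hom =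
        ((x ≫ fromQuot D N) ≫ D.split.hom.hom.hom) * ((y ≫ fromQuot D N) ≫ D.split.hom.hom.hom) from
      MonObj.mul_comp _ _ (show D.T ⟶ Red.DS S D.M from D.split.hom.hom.hom), e, e, e, Gm.dsFn_mul, Gm.dsFn_DSmap,
      Gm.dsFn_DSmap, Gm.dsFn_DSmap, Gm.dsFn_mul]

include hN hneg hpos hk in
theorem isMaximalTorus_derived (i' : Red.DS S (D.M ⧸ N) ⟶ D') [IsMonHom i']
    (hi' : i' ≫ d = fromQuot D N ≫ D.i) : Red.IsMaximalTorus i' := by
  classical
  haveI := free_quot hN
  haveI := finite_quot hN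
  haveI := mono_fromQuot hN
  haveI := D.maximalTorus.2.1
  haveI := mono_ker hN hneg hpos hk
  haveI : Mono i' := ⟨fun a a' h => (cancel_mono (fromQuot D N)).1 ((cancel_mono D.i).1 (by
    simpa only [Category.assoc, hi'] using congrArg (· ≫ d) h))⟩
  refine ⟨inferInstance, inferInstance, Groth.Agent.Lib.Tori.Basic.isTorus_DS S (D.M ⧸ N), fun s T'' _ j _ _ fT hT'' hf => ?_⟩
  obtain ⟨l, hlN, hl⟩ := exists_regular_quot hN
  obtain ⟨p, q, e, e', he, he', -, -, hopen⟩ := Contract.exists_cell hl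
  haveI := hopen
  let y := Red.geomPt s
  let g := BC.down y j ≫ d
  -- the cocharacter factors through the torus of the derived group
  let χ : D.M ⧸ N →+ ℤ := QuotientAddGroup.lift N l fun r hr => hlN r hr
  have hcomm : Commutes (gcochar D l) g := by
    intro Y φ z
    obtain ⟨z₀, hz₀⟩ := exists_fromQuot (N := N) (t := z ≫ cochar D l) (Gm.dsFn_ext fun r => by
      obtain ⟨u, rfl⟩ : ∃ u, z = Gm.gmPt u := ⟨(Gm.isUnit_gmFn z).unit, RankOne.gmPt_eq z (by simp)⟩
      rw [dsFn_toN, dsFn_cochar, Gm.dsFn_one, hlN _ r.2, Gm.dsFn_zero])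
    let Y₀ : Over (Spec (CommRingCat.of (AlgebraicClosure (S.residueField s)))) := Over.mk (φ.left ≫ T''.hom)
    let ε : (Over.map y).obj Y₀ ≅ Y := Over.isoMk (Iso.refl _) (by
      change 𝟙 _ ≫ Y.hom = (φ.left ≫ T''.hom) ≫ y
      rw [Category.id_comp, Category.assoc]
      exact (Over.w φ).symm)
    let φ₀ : Y₀ ⟶ T'' := Over.homMk φ.left rfl
    have hφ₀ : (Over.map y).map φ₀ = ε.hom ≫ φ := Over.OverMorphism.ext (Category.id_comp _).symm
    have key := congrArg (fun w => BC.down y (w ≫ j) ≫ d) (Groth.Agent.Lib.Tori.Comm.mul_comm_of_isTorus hT''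
      (BC.up y (ε.hom ≫ z₀) ≫ fT) φ₀)
    simp only [MonObj.mul_comp _ _ j, BC.down_mul, MonObj.mul_comp _ _ d] at key
    rw [Category.assoc, hf, BC.down_map, BC.down_up, BC.down_comp, hφ₀] at key
    simp only [Category.assoc, hi'] at key
    rw [← cancel_epi ε.hom, MonObj.comp_mul, MonObj.comp_mul]
    have hzg : z ≫ gcochar D l = z₀ ≫ fromQuot D N ≫ D.i := by
      rw [gcochar, ← Category.assoc, ← hz₀, Category.assoc]
    simpa only [g, hzg, Category.assoc] using key
  obtain ⟨t, ht⟩ := Contract.exists_torus (e := e) (e' := e') he he' hcomm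
  haveI : IsMonHom (extend (quotSetup hN b eneg epos hneg hpos)) := isMonHom_extend _
  obtain ⟨t', ht'⟩ := exists_fromQuot (N := N) (t := t) (by
    have h1 := comp_ker hN hneg hpos hk (BC.down y j)
    rw [show BC.down y j ≫ d = t ≫ D.i from ht.symm, Category.assoc, i_extend] at h1
    exact h1)
  let h := BC.up y t'
  have hh : h ≫ (Over.pullback y).map i' = j := BC.down_injective ((cancel_mono d).1 (by
    rw [BC.down_map, BC.down_up, Category.assoc, hi', ← Category.assoc, ht', ht]))
  haveI : Mono ((Over.pullback y).map i') := inferInstance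
  exact ⟨h, (cancel_mono ((Over.pullback y).map i')).1 (by rw [Category.assoc, hh, hf, Category.id_comp]),
    (cancel_mono j).1 (by rw [Category.assoc, hf, hh, Category.id_comp])⟩

include hN hneg hpos hk in
theorem dim_derived (s : S) : topologicalKrullDim ↥(Red.geomFibre s D').left =
    ((Module.finrank ℤ (D.M ⧸ N) + Fintype.card D.idx : ℕ) : WithBot ℕ∞) := by
  classical
  haveI := free_quot hN
  haveI := finite_quot hN
  obtain ⟨l, hlp, hln⟩ := exists_regular (D := D) b
  have hcard : n + m = Fintype.card D.idx := by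
    rw [← Fintype.card_fin n, ← Fintype.card_fin m, ← Fintype.card_sum]
    refine Fintype.card_of_bijective (f := Sum.elim eneg epos) ⟨hneg.1.sumElim hpos.1 fun a c h => ?_, fun a => ?_⟩
    · have h1 := hln _ (hneg.2 ▸ Set.mem_range_self a)
      have h2 := hlp _ (hpos.2 ▸ Set.mem_range_self c)
      rw [h] at h1
      omega
    · rcases b.root_mem_or_neg_mem a with h | h
      · obtain ⟨k, hk⟩ : a ∈ Set.range epos := hpos.2.symm ▸ h
        exact ⟨Sum.inr k, hk⟩
      · obtain ⟨k, hk⟩ : a ∈ Set.range eneg := hneg.2.symm ▸ h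
        exact ⟨Sum.inl k, hk⟩
  haveI : SmoothOfRelativeDimension (Module.finrank ℤ (D.M ⧸ N)) (Red.DS S (D.M ⧸ N)).hom := by
    let ε : (D.M ⧸ N) ≃+ (Fin (Module.finrank ℤ (D.M ⧸ N)) → ℤ) := (Module.finBasis ℤ (D.M ⧸ N)).equivFun.toAddEquiv
    exact smoothOfRelativeDimension_of_iso S
      (Lib.Tori.DS.dsOverIso (N := D.M ⧸ N) (M := Fin (Module.finrank ℤ (D.M ⧸ N)) → ℤ) S ε.symm)
      (smoothOfRelativeDimension_DS S _)
  haveI := smoothOfRelativeDimension_pow (S := S) n
  haveI := smoothOfRelativeDimension_pow (S := S) m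
  haveI : SmoothOfRelativeDimension (Module.finrank ℤ (D.M ⧸ N) + m) (Red.DS S (D.M ⧸ N) ⊗ RedSub.pow (Red.Ga S) m).hom :=
    smoothOfRelativeDimension_tensor
  haveI hW : SmoothOfRelativeDimension (n + (Module.finrank ℤ (D.M ⧸ N) + m)) (dom' D N n m).hom :=
    smoothOfRelativeDimension_tensor
  let Q := quotSetup hN b eneg epos hneg hpos
  choose c hc ho hr using exists_chartK hN hneg hpos hk
  let 𝒰 : Scheme.OpenCover D'.left := Scheme.Cover.mkOfCovers (Idx Q) (fun _ => (dom' D N n m).left)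
    (fun L => (c L).left) (fun x => by
      obtain ⟨L, hL⟩ := exists_mem_chart Q (d.left x)
      obtain ⟨w, hw⟩ := hr L x hL
      exact ⟨L, w, hw⟩) ho
  haveI hD : SmoothOfRelativeDimension (n + (Module.finrank ℤ (D.M ⧸ N) + m)) D'.hom := by
    refine IsZariskiLocalAtSource.of_openCover (P := @SmoothOfRelativeDimension (n + (Module.finrank ℤ (D.M ⧸ N) + m))) 𝒰 fun L => ?_
    change SmoothOfRelativeDimension _ ((c L).left ≫ D'.hom)
    rw [Over.w]
    exact hW
  haveI := smoothOfRelativeDimension_isStableUnderBaseChange.{u} (n + (Module.finrank ℤ (D.M ⧸ N) + m))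
  haveI hG' : SmoothOfRelativeDimension (n + (Module.finrank ℤ (D.M ⧸ N) + m)) (Red.geomFibre s D').hom :=
    MorphismProperty.of_isPullback (P := @SmoothOfRelativeDimension (n + (Module.finrank ℤ (D.M ⧸ N) + m)))
      (IsPullback.of_hasPullback D'.hom (Red.geomPt s)) hD
  haveI := hG'.smooth
  let t : Spec (CommRingCat.of (AlgebraicClosure (S.residueField s))) := IsLocalRing.closedPoint _
  have h1 := Groth.Agent.Lib.ActSep.fibreDimAt_unit (Red.geomFibre s D') t
  rw [fibreDimAt_of_smoothOfRelativeDimension _ (n := n + (Module.finrank ℤ (D.M ⧸ N) + m))] at h1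
  have huniv : (Red.geomFibre s D').hom ⁻¹' {t} = Set.univ :=
    Set.eq_univ_of_forall fun w => Subsingleton.elim (α := Spec (CommRingCat.of (AlgebraicClosure (S.residueField s)))) _ _
  rw [huniv, (Homeomorph.Set.univ _).isHomeomorph.topologicalKrullDim_eq] at h1
  rw [← h1, ← hcard]
  congr 1
  omega

include hN hneg hpos hk in
theorem exists_refl_derived (a : D.idx) : ∃ n' : 𝟙_ (Over S) ⟶ D', ∀ (X : Over S) (t : X ⟶ D.T),
    (toUnit X ≫ n' ≫ d) * (t ≫ D.i) * (toUnit X ≫ n' ≫ d)⁻¹ =
      t ≫ D.split.hom.hom.hom ≫ Red.DSmap S (D.P.reflection a).toLinearMap.toAddMonoidHom ≫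
        D.split.inv.hom.hom ≫ D.i := by
  classical
  haveI := free_quot hN
  haveI hfm : IsMonHom (extend (quotSetup hN b eneg epos hneg hpos)) := isMonHom_extend _
  obtain ⟨nn, hn⟩ := D.refl a
  obtain ⟨σ, hσ⟩ := Module.projective_lifting_property (QuotientAddGroup.mk' N).toIntLinearMap
    (LinearMap.id (R := ℤ) (M := D.M ⧸ N)) (QuotientAddGroup.mk'_surjective N)
  have hmem : ∀ r : D.M, r - σ (QuotientAddGroup.mk' N r) ∈ N := fun r => by
    rw [← QuotientAddGroup.eq_zero_iff, QuotientAddGroup.mk_sub, sub_eq_zero]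
    exact (LinearMap.congr_fun hσ (QuotientAddGroup.mk' N r)).symm
  let ρ : D.M →+ ↥N := AddMonoidHom.mk' (fun r => ⟨_, hmem r⟩) fun r r' => Subtype.ext (by
    simp only [AddSubgroup.coe_add, map_add]
    abel)
  have hρ : ∀ r : N, ρ (r : D.M) = r := fun r => Subtype.ext (by
    change (r : D.M) - σ (QuotientAddGroup.mk' N (r : D.M)) = r
    rw [show QuotientAddGroup.mk' N (r : D.M) = 0 from (QuotientAddGroup.eq_zero_iff _).2 r.2, map_zero, sub_zero])
  let t₀ : 𝟙_ (Over S) ⟶ D.T := (nn ≫ (extend (quotSetup hN b eneg epos hneg hpos))) ≫ Red.DSmap S ρ ≫ D.split.inv.hom.hom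
  have ht₀ : t₀ ≫ toN D N = nn ≫ (extend (quotSetup hN b eneg epos hneg hpos)) := Gm.dsFn_ext fun r => by
    rw [dsFn_toN]
    simp only [t₀, Category.assoc]
    rw [split_inv_hom, Category.comp_id, ← Category.assoc nn,
      Gm.dsFn_DSmap, hρ]
  obtain ⟨n', hn'⟩ := exists_lift_ker hN hneg hpos hk (p := nn * (t₀ ≫ D.i)⁻¹) (by
    haveI : IsMonHom (extend (quotSetup hN b eneg epos hneg hpos)) := isMonHom_extend _
    rw [MonObj.mul_comp _ _ (extend (quotSetup hN b eneg epos hneg hpos)),
      GrpObj.inv_comp _ (extend (quotSetup hN b eneg epos hneg hpos)), Category.assoc, i_extend]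
    change (nn ≫ (extend (quotSetup hN b eneg epos hneg hpos))) * (t₀ ≫ toN D N)⁻¹ = 1
    rw [ht₀, mul_inv_cancel])
  refine ⟨n', fun X t => ?_⟩
  rw [hn', ← hn X t, MonObj.comp_mul, GrpObj.comp_inv, ← Category.assoc (toUnit X) t₀]
  set τ := toUnit X ≫ t₀
  have hc : (τ ≫ D.i)⁻¹ * (t ≫ D.i) = (t ≫ D.i) * (τ ≫ D.i)⁻¹ := by
    rw [eq_mul_inv_iff_mul_eq, _root_.mul_assoc, inv_mul_eq_iff_eq_mul, ← MonObj.mul_comp, ← MonObj.mul_comp,
      torus_comm D]
  rw [show toUnit X ≫ nn * (τ ≫ D.i)⁻¹ * (t ≫ D.i) = (toUnit X ≫ nn) * ((τ ≫ D.i)⁻¹ * (t ≫ D.i)) by group, hc]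
  group

end Group

end Groth.Agent.H82.R2.CorootChar
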