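import Groth.Agent.H82.R2.CorootChar.Line

/-!
# The homomorphism of the group extending a coroot-killing homomorphism of the torus
-/

set_option autoImplicit false
set_option maxHeartbeats 800000
set_option linter.style.haveILetI false
set_option linter.unusedSectionVars false
universe u

open CategoryTheory MonoidalCategory CartesianMonoidalCategory MonObj GrpObj AlgebraicGeometry
open Groth.Agent.Lib.RedPts Groth.Agent.H82.BigCell Groth.Agent.H82.Contract Groth.Agent.H82.Weyl
open Groth.Agent.H82.RankOne (P P_eq P_add P_zero P_neg P_comp Sys)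
open Groth.Agent.H82.Bruhat (Adapted unip root_mem_unip)

namespace Groth.Agent.H82.R2.CorootChar

variable {S : Scheme.{u}} {G : Over S} [GrpObj G] {D : Red.SplitRed G} {A : Over S} [GrpObj A]

theorem wordPt_inv {X : Over S} (L : List (D.idx × Γ(X.left, ⊤))) :
    (wordPt D L)⁻¹ = wordPt D (L.reverse.map fun e => (e.1, -e.2)) := by
  induction L with
  | nil => simp [wordPt]
  | cons e L ih =>
    haveI : IsMonHom (D.u e.1) := (D.rootHom e.1).1
    simp only [wordPt, List.map_cons, List.prod_cons, List.reverse_cons, List.map_append, List.prod_append,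
      List.map_nil, List.prod_nil, _root_.mul_one] at ih ⊢
    rw [_root_.mul_inv_rev, ih, ← P_neg]

theorem wordPt_torus {X : Over S} (t : X ⟶ D.T) (L : List (D.idx × Γ(X.left, ⊤))) :
    (t ≫ D.i) * wordPt D L =
      wordPt D (L.map fun e => (e.1, Red.gmFn (t ≫ chr D (D.P.root e.1)) * e.2)) * (t ≫ D.i) := by
  induction L with
  | nil => simp [wordPt]
  | cons e L ih =>
    simp only [wordPt, List.map_cons, List.prod_cons] at ih ⊢
    rw [← _root_.mul_assoc, isRootPts D e.1 t, _root_.mul_assoc, ih, ← _root_.mul_assoc]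

variable (Q : Setup D A) [IsSeparated A.hom]

/-- A word carrying a point of the big cell into the big cell does not change the value. -/
theorem val_any {X : Over S} (L : List (D.idx × Γ(X.left, ⊤))) (hL : ∀ e ∈ L, Good Q e.1)
    {h : X ⟶ G} {q q' : X ⟶ A} (hv : Val Q h q) (hv' : Val Q (wordPt D L * h) q') : q' = q :=
  pt_ext_affine fun j => by
    haveI : IsAffine (piece X j).left := inferInstanceAs (IsAffine (X.left.affineCover.X j))
    have h' := hv'.comp Q (pieceHom X j)
    rw [MonObj.comp_mul, wordPt_comp] at h'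
    refine val_word Q _ (fun e he => ?_) (hv.comp Q (pieceHom X j)) h'
    obtain ⟨e', he', rfl⟩ := List.mem_map.1 he
    exact hL e' he'

/-- The indices of the translates. -/
abbrev Idx : Type := {L : List D.idx // ∀ a ∈ L, a ∈ Q.b.support}

/-- The translating element. -/
noncomputable def wU (L : Idx Q) (X : Over S) : X ⟶ G :=
  wordPt D (L.1.map fun a => (a, (1 : Γ(X.left, ⊤))))

theorem wU_comp (L : Idx Q) {X X' : Over S} (c : X' ⟶ X) : c ≫ wU Q L X = wU Q L X' := by
  rw [wU, wordPt_comp, List.map_map, wU]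
  congr 1
  exact List.map_congr_left fun a _ => Prod.ext rfl (map_one _)

/-- The translate of the big cell. -/
noncomputable def chart (L : Idx Q) : Q.dom ⟶ G := wU Q L Q.dom * Q.cell

theorem comp_chart (L : Idx Q) {X : Over S} (z : X ⟶ Q.dom) : z ≫ chart Q L = wU Q L X * (z ≫ Q.cell) := by
  rw [chart, MonObj.comp_mul, wU_comp]

instance isOpenImmersion_chart (L : Idx Q) : IsOpenImmersion (chart Q L).left := by
  let lt : G ⟶ G := wU Q L G * 𝟙 G
  let lt' : G ⟶ G := (wU Q L G)⁻¹ * 𝟙 G
  haveI : IsIso lt := ⟨lt', by simp [lt, lt', MonObj.comp_mul, GrpObj.comp_inv, wU_comp],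
    by simp [lt, lt', MonObj.comp_mul, wU_comp]⟩
  have e : chart Q L = Q.cell ≫ lt := by simp [lt, chart, MonObj.comp_mul, wU_comp]
  rw [e, Over.comp_left]
  haveI : IsIso lt.left := ((Over.forget S).mapIso (asIso lt)).isIso_hom
  infer_instance

theorem exists_mem_chart (p : G.left) : ∃ L : Idx Q, p ∈ Set.range (chart Q L).left := by
  obtain ⟨Y, g, w, hY, hgp, hw, hbig⟩ := exists_translate Q.hA (fun _ => Ga.gaPt 1)
    (fun _ _ => by rw [Ga.gaFn_gaPt]; exact isUnit_one) p
  obtain ⟨o⟩ := Bruhat.nonempty_acPt hY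
  obtain ⟨L, hL⟩ : ∃ L : Idx Q, ∀ X : Over S, toUnit X ≫ w = wU Q L X := by
    clear hbig
    induction hw using Submonoid.closure_induction with
    | mem g hg =>
      obtain ⟨a, ha, rfl⟩ := hg
      refine ⟨⟨[a], fun a' ha' => by rw [List.mem_singleton.1 ha']; exact ha⟩, fun X => ?_⟩
      change toUnit X ≫ Ga.gaPt (1 : Γ((𝟙_ (Over S)).left, ⊤)) ≫ D.u a = _
      rw [← P, P_comp, map_one]
      simp [wU, wordPt]
    | one => exact ⟨⟨[], fun a h => absurd h (List.not_mem_nil)⟩, fun X => by simp [wU, wordPt, MonObj.comp_one]⟩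
    | mul g g' _ _ ih ih' =>
      obtain ⟨L, hL⟩ := ih
      obtain ⟨L', hL'⟩ := ih'
      refine ⟨⟨L.1 ++ L'.1, fun a ha => (List.mem_append.1 ha).elim (L.2 a) (L'.2 a)⟩, fun X => ?_⟩
      rw [MonObj.comp_mul, hL, hL', wU, wU, wU, List.map_append, wordPt_append]
  obtain ⟨z, hz⟩ := exists_of_big Q.hA Q.hneg Q.hpos hbig
  refine ⟨L, z.left o, ?_⟩
  have e : z ≫ chart Q L = g := by
    rw [comp_chart]
    change _ * (z ≫ RedSub.cellMap D Q.eneg Q.epos) = g
    rw [hz, ← hL, mul_inv_cancel_left]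
  rw [← hgp o, ← e]
  exact (Scheme.Hom.comp_apply _ _ _).symm

/-- The cover of the group by the translates. -/
noncomputable def cover : Scheme.OpenCover G.left :=
  Scheme.Cover.mkOfCovers (Idx Q) (fun _ => Q.dom.left) (fun L => (chart Q L).left)
    (fun p => by
      obtain ⟨L, z, hz⟩ := exists_mem_chart Q p
      exact ⟨L, z, hz⟩)
    (fun L => isOpenImmersion_chart Q L)

/-- The value on the big cell. -/
noncomputable def cellVal : Q.dom ⟶ A := (snd _ _ ≫ fst _ _) ≫ Q.ψ

theorem val_cell {X : Over S} (z : X ⟶ Q.dom) : Val Q (z ≫ Q.cell) (z ≫ cellVal Q) :=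
  ⟨z, rfl, by simp [cellVal]⟩

theorem cellVal_compat (L L' : Idx Q) {X : Over S} (z z' : X ⟶ Q.dom) (h : z ≫ chart Q L = z' ≫ chart Q L') :
    z ≫ cellVal Q = z' ≫ cellVal Q := by
  rw [comp_chart, comp_chart] at h
  have e : wordPt D ((L'.1.map fun a => (a, (1 : Γ(X.left, ⊤)))).reverse.map (fun e => (e.1, -e.2)) ++
      L.1.map fun a => (a, (1 : Γ(X.left, ⊤)))) * (z ≫ Q.cell) = z' ≫ Q.cell := by
    rw [wordPt_append, ← wordPt_inv, _root_.mul_assoc]
    change (wU Q L' X)⁻¹ * (wU Q L X * _) = _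
    rw [h, inv_mul_cancel_left]
  refine (val_any Q _ (fun e he => ?_) (val_cell Q z) (e ▸ val_cell Q z')).symm
  rcases List.mem_append.1 he with h | h
  · simp only [List.mem_map, List.mem_reverse, exists_exists_and_eq_and] at h
    obtain ⟨a, ha, rfl⟩ := h
    exact Or.inl (L'.2 a ha)
  · obtain ⟨a, ha, rfl⟩ := List.mem_map.1 h
    exact Or.inl (L.2 a ha)

/-- The glued morphism of schemes. -/
noncomputable def extendLeft : G.left ⟶ A.left :=
  (cover Q).glueMorphisms (fun _ => (cellVal Q).left) fun L L' => by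
      let X : Over S := Over.mk (Limits.pullback.fst (chart Q L).left (chart Q L').left ≫ Q.dom.hom)
      let z : X ⟶ Q.dom := Over.homMk (Limits.pullback.fst (chart Q L).left (chart Q L').left) rfl
      let z' : X ⟶ Q.dom := Over.homMk (Limits.pullback.snd (chart Q L).left (chart Q L').left) (by
        change _ = Limits.pullback.fst (chart Q L).left (chart Q L').left ≫ Q.dom.hom
        refine Eq.symm ?_
        conv_lhs => rw [← Over.w (chart Q L), ← Category.assoc, Limits.pullback.condition, Category.assoc, Over.w (chart Q L')])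
      exact congrArg Over.Hom.left (cellVal_compat Q L L' z z' (Over.OverMorphism.ext Limits.pullback.condition))

theorem chart_extendLeft (L : Idx Q) : (chart Q L).left ≫ extendLeft Q = (cellVal Q).left := by
  have h := Scheme.Cover.ι_glueMorphisms (cover Q) (fun _ => (cellVal Q).left)
  exact h _ L

/-- The extension to the group. -/
noncomputable def extend : G ⟶ A :=
  Over.homMk (extendLeft Q) (by
    refine Scheme.Cover.hom_ext (cover Q) _ _ fun L => ?_
    change (chart Q L).left ≫ extendLeft Q ≫ A.hom = (chart Q L).left ≫ G.hom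
    rw [← Category.assoc, chart_extendLeft, Over.w, Over.w])

theorem chart_extend (L : Idx Q) : chart Q L ≫ extend Q = cellVal Q :=
  Over.OverMorphism.ext (chart_extendLeft Q L)

/-- Equalities may be checked where a given point lies in a translate. -/
theorem eq_of_charts {B : Over S} {X : Over S} (g : X ⟶ G) {a a' : X ⟶ B}
    (h : ∀ (Y : Over S) (c : Y ⟶ X) (L : Idx Q) (z : Y ⟶ Q.dom), c ≫ g = z ≫ chart Q L → c ≫ a = c ≫ a') :
    a = a' := by
  refine Over.OverMorphism.ext (Scheme.Cover.hom_ext (X.left.openCoverOfIsOpenCover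
    (fun L : Idx Q => g.left ⁻¹ᵁ (chart Q L).left.opensRange) (TopologicalSpace.IsOpenCover.mk
      (eq_top_iff.2 fun x _ => TopologicalSpace.Opens.mem_iSup.2 (exists_mem_chart Q (g.left x))))) _ _ fun L => ?_)
  let O := g.left ⁻¹ᵁ (chart Q L).left.opensRange
  let Y : Over S := Over.mk (O.ι ≫ X.hom)
  let c : Y ⟶ X := Over.homMk O.ι rfl
  obtain ⟨z, hz⟩ := exists_factor (chart Q L) (c ≫ g) (by
    rintro _ ⟨p, rfl⟩
    exact p.2)
  exact congrArg Over.Hom.left (h Y c L z hz.symm)

theorem extend_word {X : Over S} (M : List (D.idx × Γ(X.left, ⊤))) (hM : ∀ e ∈ M, Good Q e.1)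
    {h : X ⟶ G} {q : X ⟶ A} (hv : Val Q h q) : (wordPt D M * h) ≫ extend Q = q := by
  refine eq_of_charts Q (wordPt D M * h) fun Y c L z e => ?_
  rw [← Category.assoc, e, Category.assoc, chart_extend]
  rw [comp_chart, MonObj.comp_mul, wordPt_comp] at e
  have e' : wordPt D ((L.1.map fun a => (a, (1 : Γ(Y.left, ⊤)))).reverse.map (fun e => (e.1, -e.2)) ++
      M.map fun e => (e.1, c.left.appTop e.2)) * (c ≫ h) = z ≫ Q.cell := by
    rw [wordPt_append, ← wordPt_inv, _root_.mul_assoc, e]
    exact inv_mul_cancel_left _ _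
  refine val_any Q _ (fun e he => ?_) (hv.comp Q c) (e' ▸ val_cell Q z)
  rcases List.mem_append.1 he with h | h
  · simp only [List.mem_map, List.mem_reverse, exists_exists_and_eq_and] at h
    obtain ⟨a, ha, rfl⟩ := h
    exact Or.inl (L.2 a ha)
  · obtain ⟨a, ha, rfl⟩ := List.mem_map.1 h
    exact hM a ha

theorem extend_cell {X : Over S} {h : X ⟶ G} {q : X ⟶ A} (hv : Val Q h q) : h ≫ extend Q = q := by
  simpa [wordPt] using extend_word Q [] (by simp) hv

theorem extend_root_mul {c : D.idx} (hc : Good Q c) {X : Over S} (x : Γ(X.left, ⊤)) (g : X ⟶ G) :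
    (P (D.u c) x * g) ≫ extend Q = g ≫ extend Q := by
  refine eq_of_charts Q g fun Y d L z e => ?_
  rw [← Category.assoc, ← Category.assoc, MonObj.comp_mul, P_comp, e, Category.assoc, chart_extend]
  have h := extend_word Q ((c, d.left.appTop x) :: L.1.map fun a => (a, (1 : Γ(Y.left, ⊤)))) (fun e he => by
    rcases List.mem_cons.1 he with rfl | he
    · exact hc
    · obtain ⟨a, ha, rfl⟩ := List.mem_map.1 he
      exact Or.inl (L.2 a ha)) (val_cell Q z)
  rw [show wordPt D ((c, d.left.appTop x) :: L.1.map fun a => (a, (1 : Γ(Y.left, ⊤)))) =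
    P (D.u c) (d.left.appTop x) * wU Q L Y from by simp [wordPt, wU], _root_.mul_assoc, ← comp_chart] at h
  exact h

theorem extend_torus_mul {X : Over S} (t : X ⟶ D.T) (g : X ⟶ G) :
    ((t ≫ D.i) * g) ≫ extend Q = (t ≫ Q.ψ) * (g ≫ extend Q) := by
  refine eq_of_charts Q g fun Y d L z e => ?_
  rw [← Category.assoc, MonObj.comp_mul, MonObj.comp_mul, ← Category.assoc d g, e, Category.assoc z, chart_extend,
    comp_chart, ← Category.assoc d t, ← Category.assoc d t, ← _root_.mul_assoc]
  unfold wU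
  rw [wordPt_torus, _root_.mul_assoc]
  refine extend_word Q _ (fun e he => ?_) ((val_cell Q z).torus_mul Q (d ≫ t))
  simp only [List.map_map, List.mem_map, Function.comp_apply] at he
  obtain ⟨a, ha, rfl⟩ := he
  exact Or.inl (L.2 a ha)

theorem extend_one (X : Over S) : (1 : X ⟶ G) ≫ extend Q = 1 := by
  refine extend_cell Q ?_
  have h := val_of_form Q (1 : X ⟶ D.T) (one_mem _) (one_mem _)
  simpa [MonObj.one_comp] using h

/-- The left translations under which the extension is invariant. -/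
noncomputable def inv₀ (X : Over S) : Subgroup (X ⟶ G) where
  carrier := {p | ∀ (Y : Over S) (c : Y ⟶ X) (g : Y ⟶ G), ((c ≫ p) * g) ≫ extend Q = g ≫ extend Q}
  one_mem' Y c g := by rw [MonObj.comp_one, _root_.one_mul]
  mul_mem' hp hq Y c g := by rw [MonObj.comp_mul, _root_.mul_assoc, hp Y c, hq Y c]
  inv_mem' {p} hp Y c g := by
    have := hp Y c ((c ≫ p)⁻¹ * g)
    rw [mul_inv_cancel_left] at this
    rw [GrpObj.comp_inv, ← this]

theorem root_mem_inv₀ (c : D.idx) {X : Over S} (x : Γ(X.left, ⊤)) : P (D.u c) x ∈ inv₀ Q X := by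
  refine root_mem_of_simple Q.b (inv₀ Q X) (fun a ha y => ⟨fun Y d g => ?_, fun Y d g => ?_⟩) c x
  · rw [P_comp]; exact extend_root_mul Q (Or.inl ha) _ g
  · rw [P_comp]
    refine extend_root_mul Q (Or.inr ?_) _ g
    rw [Borel.root_neg_idx, map_neg]
    have := Bruhat.simple_pos Q.hA ha
    omega

theorem extend_big_mul {X : Over S} {p : X ⟶ G} {q : X ⟶ A} (hp : Val Q p q) (g : X ⟶ G) :
    (p * g) ≫ extend Q = q * (g ≫ extend Q) := by
  obtain ⟨u, t, v, hu, hv, rfl, rfl⟩ := exists_form Q hp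
  have hU : ∀ {l : D.M →+ ℤ}, (∀ a, l (D.P.root a) ≠ 0) → ∀ {w : X ⟶ G}, w ∈ unip (D := D) l X →
      ∀ g' : X ⟶ G, (w * g') ≫ extend Q = g' ≫ extend Q := fun hl w hw g' => by
    have := unip_mem hl (inv₀ Q X) (fun c x => root_mem_inv₀ Q c x) hw X (𝟙 X) g'
    rwa [Category.id_comp] at this
  rw [_root_.mul_assoc, _root_.mul_assoc, hU (fun a => by simpa using Q.hA.ne a) hu, extend_torus_mul,
    hU Q.hA.ne hv]

theorem isMonHom_extend : IsMonHom (extend Q) := by
  refine Groth.Agent.H87.HomDS.isMonHom_of_points _ fun X p g => ?_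
  obtain ⟨X', c, z, z', hc, -, hz⟩ := exists_two_cells (e := Q.eneg) (e' := Q.epos) p
  refine RankOne.eq_of_epi (G := A) hc ?_
  rw [← Category.assoc, MonObj.comp_mul, MonObj.comp_mul, ← Category.assoc c p, ← Category.assoc c g, hz,
    _root_.mul_assoc, extend_big_mul Q (val_cell Q z), extend_big_mul Q (val_cell Q z'),
    extend_big_mul Q (val_cell Q z), extend_cell Q (val_cell Q z'), _root_.mul_assoc]

theorem i_extend : D.i ≫ extend Q = Q.ψ := by
  have h := val_of_form Q (𝟙 D.T) (one_mem _) (one_mem _)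
  simp only [Category.id_comp, _root_.one_mul, _root_.mul_one] at h
  exact extend_cell Q h

theorem root_extend (c : D.idx) : D.u c ≫ extend Q = 1 := by
  have h := root_mem_inv₀ Q c (Red.gaFn (𝟙 (Red.Ga S))) (Red.Ga S) (𝟙 _) 1
  rwa [← P_eq, Category.id_comp, Category.id_comp, _root_.mul_one, extend_one] at h

end Groth.Agent.H82.R2.CorootChar
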