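import Groth.Agent.H82.R2.CorootChar.Quot
import Groth.Agent.H82.R2.Gen
import Groth.Agent.H87.Loci

/-!
# The kernel of the homomorphism onto the torus modulo coroots
-/

set_option autoImplicit false
set_option maxHeartbeats 800000
set_option linter.style.haveILetI false
set_option linter.unusedSectionVars false
universe u

open CategoryTheory MonoidalCategory CartesianMonoidalCategory MonObj GrpObj AlgebraicGeometry
open Groth.Agent.Lib.RedPts Groth.Agent.H82.BigCell Groth.Agent.H82.Contract Groth.Agent.H82.Weyl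
open Groth.Agent.H82.RankOne (P P_eq P_add P_zero P_neg P_comp Sys)
open Groth.Agent.H82.Bruhat (Adapted unip root_mem_unip)

namespace Groth.Agent.H82.R2.CorootChar

variable {S : Scheme.{u}} {G : Over S} [GrpObj G]

/-- Evaluation of a quotient class at all coroots. -/
noncomputable def evalCoroots (D : Red.SplitRed G) {N : AddSubgroup D.M}
    (hN : ∀ m : D.M, m ∈ N ↔ ∀ a : D.idx, D.P.coroot a m = 0) : D.M ⧸ N →+ (D.idx → ℤ) :=
  QuotientAddGroup.lift N (AddMonoidHom.mk' (fun m a => D.P.coroot a m) fun x y => by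
      funext a; exact map_add (D.P.coroot a) x y) fun m hm => AddMonoidHom.mem_ker.2 (funext fun a => (hN m).1 hm a)

variable {D : Red.SplitRed G} {N : AddSubgroup D.M} (hN : ∀ m : D.M, m ∈ N ↔ ∀ a : D.idx, D.P.coroot a m = 0)

include hN in
theorem evalCoroots_injective : Function.Injective (evalCoroots D hN) := by
  refine (injective_iff_map_eq_zero _).2 fun q hq => ?_
  obtain ⟨m, rfl⟩ := QuotientAddGroup.mk_surjective q
  exact (QuotientAddGroup.eq_zero_iff _).2 ((hN m).2 fun a => congrFun hq a)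

include hN in
theorem isTorsionFree_quot : Module.IsTorsionFree ℤ (D.M ⧸ N) :=
  Function.Injective.moduleIsTorsionFree (evalCoroots D hN).toIntLinearMap (evalCoroots_injective hN)
    (map_smul _)

include hN in
theorem finite_quot : Module.Finite ℤ (D.M ⧸ N) :=
  Module.Finite.of_surjective (QuotientAddGroup.mk' N).toIntLinearMap (QuotientAddGroup.mk'_surjective N)

include hN in
theorem free_quot : Module.Free ℤ (D.M ⧸ N) := by
  haveI := isTorsionFree_quot hN
  haveI := finite_quot hN
  exact Module.free_of_finite_type_torsion_free'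


/-! ### Homomorphisms to commutative groups -/

section Killed

variable {A : Over S} [GrpObj A] (ψ : G ⟶ A) [IsMonHom ψ]
  (hcomm : ∀ (X : Over S) (a b : X ⟶ A), a * b = b * a)
include hcomm

theorem kill_root (c : D.idx) {X : Over S} (x : Γ(X.left, ⊤)) : P (D.u c) x ≫ ψ = 1 := by
  haveI : IsMonHom (D.u c) := (D.rootHom c).1
  obtain ⟨X', d, hfl, hsu, hqc, τ, hτ⟩ := Groth.Agent.H82.R2.Gen.exists_cover X
  haveI := hfl; haveI := hsu; haveI := hqc
  refine RankOne.eq_of_epi (G := A) (c := d) (Flat.epi_of_flat_of_surjective _) ?_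
  rw [← Category.assoc, P_comp, MonObj.comp_one]
  generalize d.left.appTop x = y
  obtain ⟨z, hz⟩ : ∃ z : Γ(X'.left, ⊤)ˣ, (z : Γ(X'.left, ⊤)) = τ := ⟨(IsUnit.of_mul_eq_one _ hτ).unit, rfl⟩
  set t : X' ⟶ D.T := Gm.gmPt z ≫ cochar D (D.P.coroot c).toAddMonoidHom
  have hsq : Red.gmFn (t ≫ chr D (D.P.root c)) = τ * τ := by
    rw [gmFn_cochar, show (D.P.coroot c).toAddMonoidHom (D.P.root c) = 2 by
      have := D.P.root_coroot_eq_pairing c c
      rw [D.P.pairing_same, D.pairing_eq] at this
      exact this, zpow_two, Units.val_mul, hz]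
  have e : y = τ * τ * (τ * y) - τ * y := by linear_combination (-y) * hτ
  have hconj : P (D.u c) (τ * τ * (τ * y)) = (t ≫ D.i) * P (D.u c) (τ * y) * (t ≫ D.i)⁻¹ := by
    rw [← hsq, isRootPts D c t, mul_inv_cancel_right]
  rw [e, sub_eq_add_neg, P_add, P_neg, hconj, MonObj.mul_comp _ _ ψ, MonObj.mul_comp _ _ ψ, MonObj.mul_comp _ _ ψ,
    GrpObj.inv_comp _ ψ, GrpObj.inv_comp _ ψ, hcomm X' ((t ≫ D.i) ≫ ψ) (P (D.u c) (τ * y) ≫ ψ), mul_inv_cancel_right]
  exact mul_inv_cancel _

theorem kill_coroot (b : D.P.Base) (c : D.idx) {X : Over S} (z : Γ(X.left, ⊤)ˣ) :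
    Sys.H D.i (cochar D (D.P.coroot c).toAddMonoidHom) z ≫ ψ = 1 := by
  obtain ⟨m, hm, hd⟩ := exists_dualC b c
  haveI := isMonHom_scl (S := S) m
  haveI := Cent.isMonHom_chr (D := D) (D.P.root c)
  haveI : IsMonHom (D.u c) := (D.rootHom c).1
  haveI : IsMonHom (D.u (D.P.reflectionPerm c c)) := (D.rootHom _).1
  rw [(sys_of_dualC hd).coroot_eq, P_scl, P_scl]
  simp only [MonObj.mul_comp _ _ ψ, kill_root ψ hcomm, _root_.mul_one]

include hN in
theorem kill_fromQuot (b : D.P.Base) {X : Over S} (t : X ⟶ Red.DS S (D.M ⧸ N)) :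
    (t ≫ fromQuot D N ≫ D.i) ≫ ψ = 1 := by
  classical
  obtain ⟨hfl, hsu⟩ := Groth.Agent.H87.Loci.ff_DSmap S (evalCoroots_injective hN)
  -- the generic point of the torus of all coroots
  let E : Red.DS S (D.idx → ℤ) ⟶ Red.DS S (D.M ⧸ N) := Red.DSmap S (evalCoroots D hN)
  have hkill : (E ≫ fromQuot D N ≫ D.i) ≫ ψ = 1 := by
    let W := Red.DS S (D.idx → ℤ)
    let co : D.idx → (W ⟶ D.T) := fun a =>
      Gm.gmPt (Gm.isUnit_dsFn (𝟙 W) (Pi.single a (1 : ℤ))).unit ≫ cochar D (D.P.coroot a).toAddMonoidHom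
    let L := (Finset.univ : Finset D.idx).toList
    have hprod : E ≫ fromQuot D N = (L.map co).prod := by
      refine ext_dsFn fun m => ?_
      let φ : (D.idx → ℤ) →+ Additive Γ(W.left, ⊤)ˣ :=
        AddMonoidHom.mk' (fun f => Additive.ofMul (Gm.isUnit_dsFn (𝟙 W) f).unit) fun f g => by
          rw [← ofMul_mul]
          exact congrArg Additive.ofMul (Units.ext (Gm.dsFn_add _ _ _))
      let ev : (W ⟶ D.T) →* Γ(W.left, ⊤)ˣ :=
        MonoidHom.mk' (fun t => (Gm.isUnit_dsFn (t ≫ D.split.hom.hom.hom) m).unit) fun t t' => Units.ext (by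
          haveI : IsMonHom (show D.T ⟶ Red.DS S D.M from D.split.hom.hom.hom) := D.split.hom.hom.isMonHom_hom
          simp only [IsUnit.unit_spec, Units.val_mul]
          rw [show (t * t') ≫ D.split.hom.hom.hom = (t ≫ D.split.hom.hom.hom) * (t' ≫ D.split.hom.hom.hom)
            from MonObj.mul_comp t t' (show D.T ⟶ Red.DS S D.M from D.split.hom.hom.hom), Gm.dsFn_mul])
      suffices h : ev (E ≫ fromQuot D N) = ev (L.map co).prod by
        simpa [ev] using congrArg Units.val h
      rw [map_list_prod, List.map_map, Finset.prod_map_toList]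
      have h1 : φ (fun a => D.P.coroot a m) = ∑ a, D.P.coroot a m • φ (Pi.single a (1 : ℤ)) := by
        simp only [← map_zsmul, ← map_sum, ← Pi.single_smul, smul_eq_mul, _root_.mul_one, Finset.univ_sum_single]
      have h2 := congrArg Additive.toMul h1
      rw [toMul_sum] at h2
      refine Eq.trans (Eq.trans ?_ h2) (Finset.prod_congr rfl fun a _ => Units.ext ?_)
      · refine Units.ext ?_
        change Gm.dsFn ((E ≫ fromQuot D N) ≫ D.split.hom.hom.hom) m = _
        simp only [fromQuot, Category.assoc]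
        rw [split_inv_hom, Category.comp_id, Gm.dsFn_DSmap, ← Category.id_comp E,
          show E = Red.DSmap S (evalCoroots D hN) from rfl, Gm.dsFn_DSmap]
        rfl
      · change _ = Gm.dsFn ((co a) ≫ D.split.hom.hom.hom) m
        rw [← Gm.gmFn_chi, Category.assoc, gmFn_cochar, toMul_zsmul]
        rfl
    rw [← Category.assoc E, hprod]
    clear hprod
    induction L with
    | nil => simp [MonObj.one_comp]
    | cons a L ih =>
      rw [List.map_cons, List.prod_cons, MonObj.mul_comp _ _ D.i, MonObj.mul_comp _ _ ψ, ih, _root_.mul_one]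
      change ((Gm.gmPt _ ≫ cochar D _) ≫ D.i) ≫ ψ = 1
      rw [Category.assoc (Gm.gmPt _)]
      exact kill_coroot ψ hcomm b a _
  have hmor : (fromQuot D N ≫ D.i) ≫ ψ = 1 := by
    haveI := hfl; haveI := hsu
    haveI : IsAffineHom (Red.DS S (D.idx → ℤ)).hom := isAffineHom_DS _
    haveI : IsAffineHom (Red.DS S (D.M ⧸ N)).hom := isAffineHom_DS _
    haveI : IsAffineHom E.left := by
      haveI : IsAffineHom (E.left ≫ (Red.DS S (D.M ⧸ N)).hom) := by rw [Over.w]; infer_instance
      exact MorphismProperty.of_postcomp (W := @IsAffineHom) (W' := @IsSeparated) E.left (Red.DS S (D.M ⧸ N)).hom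
        inferInstance this
    refine RankOne.eq_of_epi (G := A) (c := E) (Flat.epi_of_flat_of_surjective _) ?_
    rw [MonObj.comp_one, ← Category.assoc]
    exact hkill
  rw [Category.assoc, hmor, MonObj.comp_one]

end Killed

/-! ### The kernel -/

variable (D N) in
/-- The domain of `Ω'`. -/
noncomputable abbrev dom' (n m : ℕ) : Over S :=
  RedSub.pow (Red.Ga S) n ⊗ (Red.DS S (D.M ⧸ N) ⊗ RedSub.pow (Red.Ga S) m)

include hN in
theorem smooth_dom' (n m : ℕ) : Smooth (dom' D N n m).hom := by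
  haveI := free_quot hN
  haveI := finite_quot hN
  haveI : Smooth (Red.DS S (D.M ⧸ N)).hom := Groth.Agent.Lib.Tori.DS.smooth S (D.M ⧸ N)
  haveI : ∀ k, Smooth (RedSub.pow (Red.Ga S) k).hom := fun k =>
    haveI := smoothOfRelativeDimension_pow (S := S) k
    SmoothOfRelativeDimension.smooth k _
  haveI : Smooth (Red.DS S (D.M ⧸ N) ⊗ RedSub.pow (Red.Ga S) m : Over S).hom :=
    MorphismProperty.comp_mem (@Smooth) (Limits.pullback.fst _ _) _ (MorphismProperty.pullback_fst _ _ inferInstance) inferInstance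
  exact MorphismProperty.comp_mem (@Smooth) (Limits.pullback.fst _ _) _ (MorphismProperty.pullback_fst _ _ inferInstance) inferInstance

include hN in
theorem mono_fromQuot : Mono (fromQuot D N) := by
  haveI := Groth.Agent.H87.Loci.mono_DSmap_of_surjective S (φ := QuotientAddGroup.mk' N) (QuotientAddGroup.mk'_surjective N)
  haveI : Mono (Red.DSmap S (QuotientAddGroup.mk' N)) := by
    exact (Over.forget S).mono_of_mono_map (inferInstanceAs (Mono (Red.DSmap S (QuotientAddGroup.mk' N)).left))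
  refine ⟨fun {X} a a' h => (cancel_mono (Red.DSmap S (QuotientAddGroup.mk' N))).1 ?_⟩
  have h2 := congrArg (· ≫ D.split.hom.hom.hom) h
  simpa only [fromQuot, Category.assoc, split_inv_hom, Category.comp_id] using h2

include hN in
theorem mono_primeIncl (n m : ℕ) : Mono (primeIncl D N n m) := by
  haveI := mono_fromQuot hN
  refine ⟨fun {X} a a' h => ?_⟩
  apply CartesianMonoidalCategory.hom_ext
  · simpa [primeIncl] using congrArg (· ≫ fst _ _) h
  · apply CartesianMonoidalCategory.hom_ext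
    · have h1 := congrArg (· ≫ snd _ _ ≫ fst _ _) h
      simp only [primeIncl, Category.assoc, lift_snd_assoc, lift_fst] at h1
      rw [← cancel_mono (fromQuot D N)]
      simpa only [Category.assoc] using h1
    · simpa [primeIncl] using congrArg (· ≫ snd _ _ ≫ snd _ _) h

variable {b : D.P.Base} {n m : ℕ} {eneg : Fin n → D.idx} {epos : Fin m → D.idx}
  (hneg : RedSub.Enumerates (RedSub.negRoots D.P b) eneg) (hpos : RedSub.Enumerates (RedSub.posRoots D.P b) epos)
  {K : Over S} [GrpObj K] {k : K ⟶ G} [IsMonHom k]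
  (hk : AlgGrp.IsKernel k (extend (quotSetup hN b eneg epos hneg hpos)))

include hk in
theorem mono_ker : Mono k := by
  haveI : Mono η[Red.DS S ↥N] := ⟨fun a a' _ => toUnit_unique a a'⟩
  exact MorphismProperty.of_isPullback (P := MorphismProperty.monomorphisms (Over S)) hk.flip
    (MorphismProperty.monomorphisms.infer_property _)

include hk in
theorem exists_lift_ker {X : Over S} {p : X ⟶ G}
    (h : p ≫ extend (quotSetup hN b eneg epos hneg hpos) = 1) : ∃ q : X ⟶ K, q ≫ k = p := by
  have h' : p ≫ extend (quotSetup hN b eneg epos hneg hpos) = toUnit X ≫ η[Red.DS S ↥N] := by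
    rw [h, Gm.η_eq_one, MonObj.comp_one]
  exact ⟨hk.lift p (toUnit X) h', hk.lift_fst _ _ _⟩

include hk in
theorem comp_ker {X : Over S} (q : X ⟶ K) : (q ≫ k) ≫ extend (quotSetup hN b eneg epos hneg hpos) = 1 := by
  rw [Category.assoc, hk.w, Gm.η_eq_one, MonObj.comp_one, MonObj.comp_one]

theorem wU_extend {A : Over S} [GrpObj A] (Q : Setup D A) [IsSeparated A.hom] (L : Idx Q) (X : Over S) :
    wU Q L X ≫ extend Q = 1 := by
  haveI := isMonHom_extend Q
  unfold wU wordPt
  generalize hM : (L.1.map fun a => (a, (1 : Γ(X.left, ⊤)))) = M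
  clear hM
  induction M with
  | nil => simp [MonObj.one_comp]
  | cons e M ih =>
    rw [List.map_cons, List.prod_cons, MonObj.mul_comp _ _ (extend Q), ih, _root_.mul_one, P, Category.assoc,
      root_extend, MonObj.comp_one]

include hk in
theorem exists_chartK (L : Idx (quotSetup hN b eneg epos hneg hpos)) :
    ∃ c : dom' D N n m ⟶ K, c ≫ k = primeIncl D N n m ≫ chart (quotSetup hN b eneg epos hneg hpos) L ∧
      IsOpenImmersion c.left ∧ ∀ p, k.left p ∈ Set.range (chart (quotSetup hN b eneg epos hneg hpos) L).left →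
        p ∈ Set.range c.left := by
  haveI := mono_ker hN hneg hpos hk
  haveI := mono_primeIncl hN n m
  let Q := quotSetup hN b eneg epos hneg hpos
  let ch : RedSub.pow (Red.Ga S) n ⊗ (D.T ⊗ RedSub.pow (Red.Ga S) m) ⟶ G := chart Q L
  haveI : IsOpenImmersion ch.left := isOpenImmersion_chart Q L
  haveI : Mono ch := (Over.forget S).mono_of_mono_map (inferInstanceAs (Mono ch.left))
  have hch : ch ≫ extend Q = (snd _ _ ≫ fst _ _) ≫ toN D N := chart_extend Q L
  obtain ⟨c, hc⟩ := exists_lift_ker hN hneg hpos hk (p := primeIncl D N n m ≫ ch) (by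
    rw [Category.assoc, hch]
    simpa only [Category.id_comp, Category.assoc] using primeIncl_val (D := D) (N := N) (n := n) (m := m) _ (𝟙 _))
  let O := k.left ⁻¹ᵁ ch.left.opensRange
  let Y : Over S := Over.mk (O.ι ≫ K.hom)
  let j : Y ⟶ K := Over.homMk O.ι rfl
  haveI : Mono j := (Over.forget S).mono_of_mono_map (inferInstanceAs (Mono O.ι))
  obtain ⟨z, hz⟩ := exists_factor ch (j ≫ k) (by
    rintro _ ⟨p, rfl⟩
    exact p.2)
  have hval : (z ≫ snd _ _ ≫ fst _ _) ≫ toN D N = 1 := by
    have h1 := comp_ker hN hneg hpos hk j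
    rw [← hz, Category.assoc, hch] at h1
    simpa only [Category.assoc] using h1
  obtain ⟨g, hg⟩ := exists_prime (N := N) z hval
  have hgc : g ≫ c = j := by
    rw [← cancel_mono k, Category.assoc, hc, ← Category.assoc, hg, hz]
  have hcr : ∀ x, c.left x ∈ O := fun x => by
    change k.left (c.left x) ∈ Set.range ch.left
    rw [← Scheme.Hom.comp_apply, ← Over.comp_left, hc, Over.comp_left, Scheme.Hom.comp_apply]
    exact ⟨_, rfl⟩
  let h : dom' D N n m ⟶ Y := Over.homMk (IsOpenImmersion.lift O.ι c.left (by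
      rintro _ ⟨x, rfl⟩
      rw [Scheme.Opens.range_ι]
      exact hcr x)) (by
    change _ ≫ O.ι ≫ K.hom = _
    rw [IsOpenImmersion.lift_fac_assoc, Over.w c])
  have hh : h ≫ j = c := Over.OverMorphism.ext (IsOpenImmersion.lift_fac _ _ _)
  have hhg : h ≫ g = 𝟙 _ := by
    rw [← cancel_mono (primeIncl D N n m), ← cancel_mono ch, Category.id_comp, Category.assoc, Category.assoc,
      ← Category.assoc g, hg, hz, ← Category.assoc, hh, hc]
  have hgh : g ≫ h = 𝟙 _ := by rw [← cancel_mono j, Category.assoc, hh, hgc, Category.id_comp]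
  haveI : IsIso h := ⟨g, hhg, hgh⟩
  haveI : IsIso h.left := ((Over.forget S).mapIso (asIso h)).isIso_hom
  refine ⟨c, hc, ?_, fun p hp => ?_⟩
  · rw [← hh, Over.comp_left]
    change IsOpenImmersion (h.left ≫ O.ι)
    infer_instance
  · obtain ⟨x, hx⟩ := h.left.surjective ⟨p, hp⟩
    refine ⟨x, ?_⟩
    rw [← hh, Over.comp_left, Scheme.Hom.comp_apply, hx]
    rfl

include hk in
theorem smooth_ker : Smooth K.hom := by
  let Q := quotSetup hN b eneg epos hneg hpos
  choose c hc ho hr using exists_chartK hN hneg hpos hk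
  let 𝒰 : Scheme.OpenCover K.left := Scheme.Cover.mkOfCovers (Idx Q) (fun _ => (dom' D N n m).left)
    (fun L => (c L).left) (fun p => by
      obtain ⟨L, hL⟩ := exists_mem_chart Q (k.left p)
      obtain ⟨x, hx⟩ := hr L p hL
      exact ⟨L, x, hx⟩) ho
  rw [IsZariskiLocalAtSource.iff_of_openCover (P := @Smooth) 𝒰]
  intro L
  change Smooth ((c L).left ≫ K.hom)
  rw [Over.w]
  exact smooth_dom' hN n m

include hN in
theorem exists_retraction : ∃ r : RedSub.pow (Red.Ga S) n ⊗ (D.T ⊗ RedSub.pow (Red.Ga S) m) ⟶ dom' D N n m,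
    primeIncl D N n m ≫ r = 𝟙 _ := by
  haveI := free_quot hN
  obtain ⟨σ, hσ⟩ := Module.projective_lifting_property (QuotientAddGroup.mk' N).toIntLinearMap
    (LinearMap.id (R := ℤ) (M := D.M ⧸ N)) (QuotientAddGroup.mk'_surjective N)
  refine ⟨lift (fst _ _) (lift (snd _ _ ≫ fst _ _ ≫ D.split.hom.hom.hom ≫ Red.DSmap S σ.toAddMonoidHom)
    (snd _ _ ≫ snd _ _)), ?_⟩
  have key : fromQuot D N ≫ D.split.hom.hom.hom ≫ Red.DSmap S σ.toAddMonoidHom = 𝟙 _ := Gm.dsFn_ext fun q => by
    simp only [fromQuot, Category.assoc]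
    rw [← Category.assoc D.split.inv.hom.hom, split_inv_hom, Category.id_comp, Gm.dsFn_DSmap,
      ← Category.id_comp (Red.DSmap S (QuotientAddGroup.mk' N)), Gm.dsFn_DSmap]
    exact congrArg _ (LinearMap.congr_fun hσ q)
  apply CartesianMonoidalCategory.hom_ext
  · simp [primeIncl]
  · apply CartesianMonoidalCategory.hom_ext
    · simp only [primeIncl, Category.assoc, lift_snd_assoc, lift_fst, lift_fst_assoc, key, Category.comp_id,
        Category.id_comp]
    · simp [primeIncl]

theorem isPreirreducible_fibre (D : Red.SplitRed G) (s : S) : IsPreirreducible (G.hom ⁻¹' {s}) := by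
  haveI := D.reductive.2.1
  let Y : Over S := Over.mk (S.fromSpecResidueField s)
  haveI : IrreducibleSpace (G ⊗ Y).left := Groth.Agent.Lib.ActSep.irreducibleSpace_geomFibre
    (isConnected_fibre D) (S.fromSpecResidueField s)
  have hr : Set.range (fst G Y).left = G.hom ⁻¹' {s} := by
    change Set.range (Limits.pullback.fst G.hom Y.hom) = _
    rw [Scheme.Pullback.range_fst]
    change G.hom ⁻¹' Set.range (S.fromSpecResidueField s) = _
    rw [Scheme.range_fromSpecResidueField]
  rw [← hr, ← Set.image_univ]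
  exact (IrreducibleSpace.isIrreducible_univ _).isPreirreducible.image _ (Scheme.Hom.continuous _).continuousOn

include hN hneg hpos in
theorem isPreconnected_dom' (s : S) : _root_.IsPreconnected ((dom' D N n m).hom ⁻¹' {s}) := by
  let Q := quotSetup hN b eneg epos hneg hpos
  obtain ⟨r, hr⟩ := exists_retraction hN (n := n) (m := m)
  have hpre : _root_.IsPreconnected ((Q.dom.hom : Q.dom.left ⟶ S) ⁻¹' {s}) := by
    have hd : Q.cell.left '' (Q.dom.hom ⁻¹' {s}) = G.hom ⁻¹' {s} ∩ Set.range Q.cell.left := by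
      ext x
      constructor
      · rintro ⟨y, hy, rfl⟩
        refine ⟨?_, y, rfl⟩
        change G.hom (Q.cell.left y) = s
        rw [← Scheme.Hom.comp_apply, Over.w]
        exact hy
      · rintro ⟨hx, y, rfl⟩
        refine ⟨y, ?_, rfl⟩
        change Q.dom.hom y = s
        rw [← Over.w Q.cell, Scheme.Hom.comp_apply]
        exact hx
    refine (Q.cell.left.isOpenEmbedding.isInducing.isPreconnected_image).1 ?_
    rw [hd]
    rcases Set.eq_empty_or_nonempty (G.hom ⁻¹' {s} ∩ Set.range Q.cell.left) with h | h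
    · rw [h]; exact isPreconnected_empty
    · refine IsPreirreducible.isPreconnected ?_
      intro u v hu hv hu' hv'
      obtain ⟨x, ⟨hxA, hxO⟩, hxu⟩ := hu'
      obtain ⟨y, ⟨hyA, hyO⟩, hyv⟩ := hv'
      obtain ⟨w, hwA, ⟨hwu, hwO⟩, hwv, -⟩ := isPreirreducible_fibre D s (u ∩ Set.range Q.cell.left)
        (v ∩ Set.range Q.cell.left) (hu.inter Q.cell.left.isOpenEmbedding.isOpen_range)
        (hv.inter Q.cell.left.isOpenEmbedding.isOpen_range) ⟨x, hxA, hxu, hxO⟩ ⟨y, hyA, hyv, hyO⟩
      exact ⟨w, ⟨hwA, hwO⟩, hwu, hwv⟩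
  have himg : (dom' D N n m).hom ⁻¹' {s} = r.left '' (Q.dom.hom ⁻¹' {s}) := by
    ext x
    constructor
    · intro hx
      refine ⟨(primeIncl D N n m).left x, ?_, ?_⟩
      · change (RedSub.pow (Red.Ga S) n ⊗ (D.T ⊗ RedSub.pow (Red.Ga S) m) : Over S).hom ((primeIncl D N n m).left x) = s
        rw [← Scheme.Hom.comp_apply]
        exact (congrArg (fun f : (dom' D N n m).left ⟶ S => f x) (Over.w (primeIncl D N n m))).trans hx
      · rw [← Scheme.Hom.comp_apply, ← Over.comp_left, hr]; rfl
    · rintro ⟨y, hy, rfl⟩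
      change (dom' D N n m).hom (r.left y) = s
      rw [← Scheme.Hom.comp_apply, Over.w]
      exact hy
  rw [himg]
  exact hpre.image _ r.left.continuous.continuousOn

include hk in
theorem connected_ker : RedSub.HasConnectedFibres K := fun s => by
  let Q := quotSetup hN b eneg epos hneg hpos
  haveI := mono_ker hN hneg hpos hk
  choose c hc ho hr using exists_chartK hN hneg hpos hk
  let e : K.left := η[K].left s
  have he : K.hom e = s := by
    change K.hom (η[K].left s) = s
    rw [← Scheme.Hom.comp_apply, Over.w η[K]]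
    rfl
  have hmem : ∀ L, e ∈ Set.range (c L).left := fun L => by
    refine hr L e ?_
    have h1 : Big D Q.l ((wU Q L (𝟙_ (Over S)))⁻¹) := by
      have hu : wU Q L (𝟙_ (Over S)) ∈ unip (D := D) Q.l (𝟙_ (Over S)) := by
        refine Subgroup.list_prod_mem _ fun x hx => ?_
        simp only [List.map_map, List.mem_map, Function.comp_apply] at hx
        obtain ⟨a, ha, rfl⟩ := hx
        exact root_mem_unip (Bruhat.simple_pos Q.hA (L.2 a ha)) _
      simpa using (Big.one (D := D) (l := Q.l) (𝟙_ (Over S))).mul_unip (inv_mem hu)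
    obtain ⟨z, hz⟩ := exists_of_big Q.hA Q.hneg Q.hpos h1
    refine ⟨z.left s, ?_⟩
    rw [← Scheme.Hom.comp_apply, ← Over.comp_left, comp_chart]
    change (wU Q L (𝟙_ (Over S)) * (z ≫ RedSub.cellMap D Q.eneg Q.epos)).left s = _
    rw [hz, mul_inv_cancel, ← Gm.η_eq_one]
    change η[G].left s = k.left (η[K].left s)
    rw [← Scheme.Hom.comp_apply, ← Over.comp_left, IsMonHom.one_hom]
  have himg : ∀ L, (c L).left '' ((dom' D N n m).hom ⁻¹' {s}) = K.hom ⁻¹' {s} ∩ Set.range (c L).left := fun L => by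
    ext x
    constructor
    · rintro ⟨y, hy, rfl⟩
      refine ⟨?_, y, rfl⟩
      change K.hom ((c L).left y) = s
      rw [← Scheme.Hom.comp_apply, Over.w]
      exact hy
    · rintro ⟨hx, y, rfl⟩
      refine ⟨y, ?_, rfl⟩
      change (dom' D N n m).hom y = s
      rw [← Over.w (c L), Scheme.Hom.comp_apply]
      exact hx
  refine ⟨⟨e, he⟩, ?_⟩
  refine isPreconnected_of_forall e fun x hx => ?_
  obtain ⟨L, hL⟩ := exists_mem_chart Q (k.left x)
  refine ⟨(c L).left '' ((dom' D N n m).hom ⁻¹' {s}), ?_, ?_, ?_, ?_⟩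
  · rw [himg]; exact Set.inter_subset_left
  · rw [himg]; exact ⟨he, hmem L⟩
  · rw [himg]; exact ⟨hx, hr L x hL⟩
  · exact (isPreconnected_dom' hN hneg hpos s).image _ (c L).left.continuous.continuousOn

include hk in
theorem killed_ker : RedSub.KilledByCommutative k := fun A _ ψ _ hcomm => by
  let Q := quotSetup hN b eneg epos hneg hpos
  refine eq_of_charts Q k fun Y d L z e => ?_
  have hz : (z ≫ snd _ _ ≫ fst _ _) ≫ toN D N = 1 := by
    have h := comp_ker hN hneg hpos hk d
    rw [e, Category.assoc, chart_extend] at h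
    simpa [cellVal, Q, quotSetup] using h
  obtain ⟨g, hg⟩ : ∃ g : Y ⟶ dom' D N n m, g ≫ primeIncl D N n m = z := exists_prime (N := N) z hz
  have hroot : ∀ (j : ℕ) (d : Fin j → D.idx) (w : Y ⟶ RedSub.pow (Red.Ga S) j),
      (w ≫ RedSub.prodMap (Red.Ga S) j fun i => D.u (d i)) ≫ ψ = 1 := fun j d w => by
    rw [comp_prodMap]
    let H : Subgroup (Y ⟶ G) :=
      { carrier := {p | p ≫ ψ = 1}
        one_mem' := MonObj.one_comp ψ
        mul_mem' := fun {p q} hp hq => show (p * q) ≫ ψ = 1 by
          rw [MonObj.mul_comp, show p ≫ ψ = 1 from hp, show q ≫ ψ = 1 from hq, _root_.one_mul]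
        inv_mem' := fun {p} hp => show p⁻¹ ≫ ψ = 1 by rw [GrpObj.inv_comp, show p ≫ ψ = 1 from hp, inv_one] }
    refine (Bruhat.prodPts_mem_subgroup (H := H) fun i => ?_ : _ ∈ H)
    change (w ≫ proj j i ≫ D.u (d i)) ≫ ψ = 1
    rw [← Category.assoc w, P_eq (D.u (d i))]
    exact kill_root ψ hcomm _ _
  have hw : wU Q L Y ≫ ψ = 1 := by
    unfold wU wordPt
    generalize hM : (L.1.map fun a => (a, (1 : Γ(Y.left, ⊤)))) = M
    clear hM
    induction M with
    | nil => simp [MonObj.one_comp]
    | cons a M ih => rw [List.map_cons, List.prod_cons, MonObj.mul_comp _ _ ψ, ih, _root_.mul_one, kill_root ψ hcomm]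
  rw [MonObj.comp_one, ← Category.assoc, e, comp_chart, MonObj.mul_comp _ _ ψ, hw, _root_.one_mul, ← hg]
  change ((g ≫ primeIncl D N n m) ≫ RedSub.cellMap D eneg epos) ≫ ψ = 1
  rw [Category.assoc g, primeIncl_cell, primeMap, MonObj.comp_mul, MonObj.comp_mul, MonObj.mul_comp _ _ ψ,
    MonObj.mul_comp _ _ ψ]
  have ht := kill_fromQuot hN ψ hcomm b (g ≫ snd _ _ ≫ fst _ _)
  simp only [fromQuot, Category.assoc] at ht
  have h1 := hroot n eneg (g ≫ fst _ _)
  have h2 := hroot m epos (g ≫ snd _ _ ≫ snd _ _)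
  simp only [Category.assoc] at h1 h2 ⊢
  rw [h1, ht, h2, _root_.one_mul, _root_.one_mul]


end Groth.Agent.H82.R2.CorootChar
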