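import Groth.Agent.H82.R2.CorootChar.Step
import Groth.Agent.Lib.SchDense.Basic
import Mathlib.RingTheory.Polynomial.Basic
import Mathlib.RingTheory.Spectrum.Prime.Topology

/-!
# Invariance of the value along words
-/

set_option autoImplicit false
set_option maxHeartbeats 800000
set_option linter.style.haveILetI false
set_option linter.unusedSectionVars false
universe u

open CategoryTheory MonoidalCategory CartesianMonoidalCategory MonObj GrpObj AlgebraicGeometry
open Groth.Agent.Lib.RedPts Groth.Agent.H82.BigCell Groth.Agent.H82.Contract Groth.Agent.H82.Weyl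
open Groth.Agent.H82.RankOne (P P_eq P_add P_zero P_neg P_comp Sys)
open Groth.Agent.H82.Bruhat (Adapted unip root_mem_unip)

namespace Groth.Agent.H82.R2.CorootChar

variable {S : Scheme.{u}} {G : Over S} [GrpObj G] {D : Red.SplitRed G} {A : Over S} [GrpObj A]

/-! ### A polynomial with an invertible value -/

theorem mem_nonZeroDivisors_of_eval {R : Type u} [CommRing R] {p : Polynomial R} {r : R}
    (h : IsUnit (p.eval r)) : p ∈ nonZeroDivisors (Polynomial R) := by
  by_contra hp
  obtain ⟨a, ha, hap⟩ := Polynomial.notMem_nonZeroDivisors_iff.1 hp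
  have := congrArg (Polynomial.eval r) hap
  rw [Polynomial.eval_smul, Polynomial.eval_zero, smul_eq_mul] at this
  exact ha (h.mul_left_eq_zero.1 this)

/-- A function of the line nonvanishing along a constant section and supported in an open. -/
theorem exists_eval_one {R : Type u} [CommRing R] (O : Set (PrimeSpectrum (Polynomial R))) (hO : IsOpen O)
    (r : R) (h : ∀ p : PrimeSpectrum R, PrimeSpectrum.comap (Polynomial.evalRingHom r) p ∈ O) :
    ∃ f : Polynomial R, f.eval r = 1 ∧ (PrimeSpectrum.basicOpen f : Set (PrimeSpectrum (Polynomial R))) ⊆ O := by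
  obtain ⟨I, hI⟩ := (PrimeSpectrum.isClosed_iff_zeroLocus_ideal Oᶜ).1 hO.isClosed_compl
  have htop : I.map (Polynomial.evalRingHom r) = ⊤ := by
    by_contra hne
    obtain ⟨M, hM, hle⟩ := Ideal.exists_le_maximal _ hne
    have hmem : PrimeSpectrum.comap (Polynomial.evalRingHom r) ⟨M, hM.isPrime⟩ ∈ PrimeSpectrum.zeroLocus (I : Set (Polynomial R)) :=
      fun f hf => hle (Ideal.mem_map_of_mem _ hf)
    rw [← hI] at hmem
    exact hmem (h _)
  have h1 : (1 : R) ∈ I.map (Polynomial.evalRingHom r) := htop ▸ Submodule.mem_top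
  obtain ⟨f, hf, hf1⟩ := (Ideal.mem_map_iff_of_surjective _ (fun a => ⟨Polynomial.C a, by simp⟩)).1 h1
  refine ⟨f, hf1, fun p hp => ?_⟩
  by_contra hpO
  have hz : p ∈ PrimeSpectrum.zeroLocus (I : Set (Polynomial R)) := hI ▸ hpO
  exact hp (hz hf)

/-! ### Words -/

/-- The product of the root elements of a word of pairs. -/
noncomputable def wordPt (D : Red.SplitRed G) {X : Over S} (L : List (D.idx × Γ(X.left, ⊤))) : X ⟶ G :=
  (L.map fun e => P (D.u e.1) e.2).prod

theorem wordPt_comp {X X' : Over S} (c : X' ⟶ X) (L : List (D.idx × Γ(X.left, ⊤))) :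
    c ≫ wordPt D L = wordPt D (L.map fun e => (e.1, c.left.appTop e.2)) := by
  induction L with
  | nil => simp [wordPt, MonObj.comp_one]
  | cons e L ih =>
    simp only [wordPt, List.map_cons, List.prod_cons] at ih ⊢
    rw [MonObj.comp_mul, P_comp, ih]

theorem wordPt_append {X : Over S} (L L' : List (D.idx × Γ(X.left, ⊤))) :
    wordPt D (L ++ L') = wordPt D L * wordPt D L' := by
  simp [wordPt, List.map_append, List.prod_append]

variable (Q : Setup D A)

/-- The roots allowed in a word: the simple roots and the negative ones. -/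
def Good (c : D.idx) : Prop := c ∈ Q.b.support ∨ Q.l (D.P.root c) < 0

open Polynomial (C)

/-- Scaling a word by a variable. -/
noncomputable def scaleWord (X : Over S) [IsAffine X.left] (L : List (D.idx × Γ(X.left, ⊤))) :
    List (D.idx × Γ((ext X (C : Γ(X.left, ⊤) →+* Polynomial Γ(X.left, ⊤))).left, ⊤)) :=
  L.map fun e => (e.1, fn X C (Polynomial.X * C e.2))

/-- The section at a value of the variable. -/
noncomputable def atVal (X : Over S) [IsAffine X.left] (r : Γ(X.left, ⊤)) :
    ext X (RingHom.id Γ(X.left, ⊤)) ⟶ ext X (C : Γ(X.left, ⊤) →+* Polynomial Γ(X.left, ⊤)) :=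
  extMap C (RingHom.id _) (𝟙 X) (Polynomial.evalRingHom r) (by ext a; simp)

theorem atVal_extHom (X : Over S) [IsAffine X.left] (r : Γ(X.left, ⊤)) :
    atVal X r ≫ extHom X C = extHom X (RingHom.id _) := by
  rw [atVal, extMap_extHom, Category.comp_id]

theorem atVal_scaleWord (X : Over S) [IsAffine X.left] (r : Γ(X.left, ⊤)) (L : List (D.idx × Γ(X.left, ⊤))) :
    atVal X r ≫ wordPt D (scaleWord X L) =
      extHom X (RingHom.id _) ≫ wordPt D (L.map fun e => (e.1, r * e.2)) := by
  rw [wordPt_comp, wordPt_comp, scaleWord, List.map_map, List.map_map]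
  refine congrArg _ (List.map_congr_left fun e _ => Prod.ext rfl ?_)
  simp only [Function.comp_apply, atVal]
  rw [extMap_fn, extHom_fn]
  simp only [Polynomial.coe_evalRingHom, Polynomial.eval_mul, Polynomial.eval_X, Polynomial.eval_C, RingHom.id_apply, map_mul]

theorem exists_near_zero {X : Over S} [IsAffine X.left] {h : X ⟶ G} {q : X ⟶ A} (hv : Val Q h q) :
    ∀ L : List (D.idx × Γ(X.left, ⊤)), (∀ e ∈ L, Good Q e.1) →
      ∃ V : (ext X (C : Γ(X.left, ⊤) →+* Polynomial Γ(X.left, ⊤))).left.Opens,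
        (∀ p, (atVal X 0).left p ∈ V) ∧
        ∀ {Y : Over S} (c : Y ⟶ ext X C), Set.range c.left ⊆ (V : Set _) →
          Val Q (c ≫ (wordPt D (scaleWord X L) * (extHom X C ≫ h))) (c ≫ extHom X C ≫ q)
  | [], _ => ⟨⊤, fun _ => trivial, fun c _ => by
      simpa [scaleWord, wordPt, MonObj.comp_mul, MonObj.comp_one] using (hv.comp Q (c ≫ extHom X C))⟩
  | e :: L, hL => by
    obtain ⟨V, h0, hV⟩ := exists_near_zero hv L fun e' he' => hL e' (List.mem_cons_of_mem _ he')
    let g := wordPt D (scaleWord X (e :: L)) * (extHom X C ≫ h)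
    refine ⟨V ⊓ g.left ⁻¹ᵁ Q.cell.left.opensRange, fun p => ⟨h0 p, ?_⟩, fun {Y} c hc => ?_⟩
    · have e1 : atVal X 0 ≫ g = extHom X (RingHom.id _) ≫ h := by
        simp only [g, MonObj.comp_mul, atVal_scaleWord, ← Category.assoc, atVal_extHom]
        have hone : wordPt D ((e :: L).map fun e => (e.1, (0 : Γ(X.left, ⊤)) * e.2)) = 1 := by
          refine List.prod_eq_one fun x hx => ?_
          simp only [List.map_map, List.mem_map, Function.comp_apply, zero_mul] at hx
          obtain ⟨e', -, rfl⟩ := hx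
          haveI : IsMonHom (D.u e'.1) := (D.rootHom e'.1).1
          exact P_zero _
        rw [hone, MonObj.comp_one, _root_.one_mul]
      obtain ⟨z, hz, -⟩ := hv.comp Q (extHom X (RingHom.id _))
      change g.left ((atVal X 0).left p) ∈ Set.range Q.cell.left
      rw [← Scheme.Hom.comp_apply, ← Over.comp_left, e1, ← hz]
      exact ⟨z.left p, (Scheme.Hom.comp_apply _ _ _).symm⟩
    · have h1 := hV c fun x hx => (hc hx).1
      obtain ⟨z, hz⟩ := exists_factor Q.cell (c ≫ g) (by
        rintro _ ⟨p, rfl⟩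
        rw [Over.comp_left, Scheme.Hom.comp_apply]
        exact (hc ⟨p, rfl⟩).2)
      have e2 : c ≫ g = P (D.u e.1) (c.left.appTop (fn X C (Polynomial.X * C e.2))) *
          (c ≫ (wordPt D (scaleWord X L) * (extHom X C ≫ h))) := by
        simp only [g, scaleWord, wordPt, List.map_cons, List.prod_cons, MonObj.comp_mul, P_comp, _root_.mul_assoc]
      change Val Q (c ≫ g) _
      rw [e2]
      exact val_step Q (hL e List.mem_cons_self) _ h1
        (by rw [← e2, ← hz]; exact big_comp_cellMap Q.hA Q.hneg Q.hpos z)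

variable [IsSeparated A.hom]

/-- A word carrying a point of the big cell into the big cell does not change the value. -/
theorem val_word {X : Over S} [IsAffine X.left] (L : List (D.idx × Γ(X.left, ⊤))) (hL : ∀ e ∈ L, Good Q e.1)
    {h : X ⟶ G} {q q' : X ⟶ A} (hv : Val Q h q) (hv' : Val Q (wordPt D L * h) q') : q' = q := by
  classical
  let R := Γ(X.left, ⊤)
  let T := ext X (C : R →+* Polynomial R)
  let g := wordPt D (scaleWord X L) * (extHom X C ≫ h)
  have e1 : atVal X 1 ≫ g = extHom X (RingHom.id _) ≫ (wordPt D L * h) := by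
    simp only [g, MonObj.comp_mul, atVal_scaleWord, ← Category.assoc, atVal_extHom]
    simp
  obtain ⟨V, h0, hV⟩ := exists_near_zero Q hv L hL
  have h1 : ∀ p, (atVal X 1).left p ∈ g.left ⁻¹ᵁ Q.cell.left.opensRange := fun p => by
    obtain ⟨z, hz, -⟩ := hv'.comp Q (extHom X (RingHom.id _))
    change g.left ((atVal X 1).left p) ∈ Set.range Q.cell.left
    rw [← Scheme.Hom.comp_apply, ← Over.comp_left, e1, ← hz]
    exact ⟨z.left p, (Scheme.Hom.comp_apply _ _ _).symm⟩
  obtain ⟨f₀, hf₀, hsub₀⟩ := exists_eval_one (show Set (PrimeSpectrum (Polynomial R)) from V.1) V.2 (0 : R) h0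
  obtain ⟨f₁, hf₁, hsub₁⟩ := exists_eval_one
    (show Set (PrimeSpectrum (Polynomial R)) from (g.left ⁻¹ᵁ Q.cell.left.opensRange).1)
    (g.left ⁻¹ᵁ Q.cell.left.opensRange).2 (1 : R) h1
  let R₁ := Localization.Away f₁
  let R₂ := Localization.Away (f₁ * f₀)
  let a₁ : Polynomial R →+* R₁ := algebraMap _ _
  let a₂ : Polynomial R →+* R₂ := algebraMap _ _
  have hu₂ : IsUnit (a₂ f₁) := isUnit_of_mul_isUnit_left (y := a₂ f₀) (by
    rw [← map_mul]; exact IsLocalization.map_units R₂ (⟨f₁ * f₀, Submonoid.mem_powers _⟩ : Submonoid.powers (f₁ * f₀)))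
  let j₁₂ : R₁ →+* R₂ := IsLocalization.Away.lift f₁ (g := a₂) hu₂
  have hj : ∀ x, j₁₂ (a₁ x) = a₂ x := fun x => IsLocalization.Away.lift_eq f₁ hu₂ x
  have hnzd : f₁ * f₀ ∈ nonZeroDivisors (Polynomial R) :=
    mul_mem (mem_nonZeroDivisors_of_eval (r := 1) (by rw [hf₁]; exact isUnit_one))
      (mem_nonZeroDivisors_of_eval (r := 0) (by rw [hf₀]; exact isUnit_one))
  have hinj₂ : Function.Injective a₂ :=
    IsLocalization.injective R₂ (Submonoid.powers_le.2 hnzd)
  have hinj : Function.Injective j₁₂ := by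
    refine (injective_iff_map_eq_zero j₁₂).2 fun z hz => ?_
    obtain ⟨⟨x, s⟩, hx⟩ := IsLocalization.surj (Submonoid.powers f₁) z
    have h2 := congrArg j₁₂ hx
    rw [map_mul, hz, zero_mul] at h2
    change 0 = j₁₂ (a₁ x) at h2
    rw [hj, eq_comm, map_eq_zero_iff _ hinj₂] at h2
    rw [h2, map_zero] at hx
    exact (IsLocalization.map_units R₁ s).mul_left_eq_zero.1 hx
  -- the three points
  let T₁ := ext X (a₁.comp (C : R →+* Polynomial R))
  let T₂ := ext X (a₂.comp (C : R →+* Polynomial R))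
  let c₁ : T₁ ⟶ T := extMap C _ (𝟙 X) a₁ (by ext a; simp)
  let c₂₁ : T₂ ⟶ T₁ := extMap _ (a₂.comp (C : R →+* Polynomial R)) (𝟙 X) j₁₂ (by ext a; simp [hj])
  have hr₁ : Set.range c₁.left = (PrimeSpectrum.basicOpen f₁ : Set (PrimeSpectrum (Polynomial R))) :=
    PrimeSpectrum.localization_away_comap_range R₁ f₁
  obtain ⟨z₁, hz₁⟩ := exists_factor Q.cell (c₁ ≫ g) (by
    rintro _ ⟨p, rfl⟩
    rw [Over.comp_left, Scheme.Hom.comp_apply]
    exact hsub₁ (hr₁ ▸ Set.mem_range_self p))
  set q₁ := (z₁ ≫ snd _ _ ≫ fst _ _) ≫ Q.ψ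
  have hq₁ : Val Q (c₁ ≫ g) q₁ := ⟨z₁, hz₁, rfl⟩
  have hr₂ : Set.range (c₂₁ ≫ c₁).left ⊆ (V : Set _) := by
    rintro _ ⟨p, rfl⟩
    refine hsub₀ ?_
    have hp : PrimeSpectrum.comap a₂ p ∈ PrimeSpectrum.basicOpen (f₁ * f₀) := by
      have := Set.mem_range_self (f := PrimeSpectrum.comap a₂) p
      rwa [PrimeSpectrum.localization_away_comap_range R₂ (f₁ * f₀)] at this
    rw [PrimeSpectrum.basicOpen_mul] at hp
    have he : (c₂₁ ≫ c₁).left p = PrimeSpectrum.comap a₂ p := by
      change PrimeSpectrum.comap a₁ (PrimeSpectrum.comap j₁₂ p) = _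
      rw [← PrimeSpectrum.comap_comp_apply]
      exact congrArg (fun φ => PrimeSpectrum.comap φ p) (RingHom.ext hj)
    rw [he]
    exact hp.2
  have h2 : c₂₁ ≫ q₁ = (c₂₁ ≫ c₁) ≫ extHom X C ≫ q :=
    Val.unique Q (hq₁.comp Q c₂₁) (by rw [← Category.assoc]; exact hV _ hr₂)
  have hq : q₁ = c₁ ≫ extHom X C ≫ q := by
    ext
    haveI := Lib.SchDense.Basic.std_specMap_of_injective (CommRingCat.ofHom j₁₂) hinj
    refine Lib.SchDense.Basic.ext_of_std A.hom (by rw [Over.w, Over.w]) (Spec.map (CommRingCat.ofHom j₁₂)) ?_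
    have h3 := congrArg Over.Hom.left h2
    rw [Category.assoc] at h3
    exact h3
  -- at the value one
  let e₁ : R₁ →+* R := IsLocalization.Away.lift f₁ (g := Polynomial.evalRingHom (1 : R))
    (by simp [hf₁])
  have he₁ : ∀ x, e₁ (a₁ x) = Polynomial.eval 1 x := fun x => IsLocalization.Away.lift_eq f₁ _ x
  let s₁ : ext X (RingHom.id R) ⟶ T₁ := extMap _ (RingHom.id R) (𝟙 X) e₁ (by ext a; simp [he₁]; rfl)
  have hs₁ : s₁ ≫ c₁ = atVal X 1 := by
    ext
    change Spec.map (CommRingCat.ofHom e₁) ≫ Spec.map (CommRingCat.ofHom a₁) = Spec.map _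
    rw [← Spec.map_comp, ← CommRingCat.ofHom_comp]
    exact congrArg (fun φ => Spec.map (CommRingCat.ofHom φ)) (RingHom.ext he₁)
  have h4 := hq₁.comp Q s₁
  rw [← Category.assoc, hs₁, e1, hq, ← Category.assoc s₁, hs₁, ← Category.assoc, atVal_extHom] at h4
  have h5 := Val.unique Q h4 (hv'.comp Q (extHom X (RingHom.id R)))
  obtain ⟨d, hd, -⟩ := exists_toExt (X := X) (Y := X) (RingHom.id R) (𝟙 X) (𝟙 X : X ⟶ X).left.appTop.hom
    (RingHom.comp_id _)
  have h6 := congrArg (d ≫ ·) h5
  rw [← Category.assoc, hd, Category.id_comp, ← Category.assoc, hd, Category.id_comp] at h6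
  exact h6.symm

end Groth.Agent.H82.R2.CorootChar
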