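import Groth.Agent.H82.R2.CorootChar.Glue
import Groth.Agent.Lib.Tori.DS

/-!
# The quotient of a split group by its coroot subgroup on the torus
-/

set_option autoImplicit false
set_option maxHeartbeats 800000
set_option linter.style.haveILetI false
set_option linter.unusedSectionVars false
universe u

open CategoryTheory MonoidalCategory CartesianMonoidalCategory MonObj GrpObj AlgebraicGeometry
open Groth.Agent.Lib.RedPts Groth.Agent.H82.BigCell Groth.Agent.H82.Contract Groth.Agent.H82.Weyl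
open Groth.Agent.H82.RankOne (P P_eq P_add P_zero P_neg P_comp Sys)
open Groth.Agent.H82.Bruhat (Adapted)

namespace Groth.Agent.H82.R2.CorootChar

variable {S : Scheme.{u}} {G : Over S} [GrpObj G]

theorem isAffineHom_DS (N : Type) [AddCommGroup N] : IsAffineHom (Red.DS S N).hom :=
  Groth.Agent.Lib.Tori.DS.isAffineHom S N

instance isSeparated_DS (N : Type) [AddCommGroup N] : IsSeparated (Red.DS S N).hom := by
  haveI := isAffineHom_DS (S := S) N
  infer_instance

variable (D : Red.SplitRed G) (N : AddSubgroup D.M)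

/-- `T ⟶ D(N)`. -/
noncomputable def toN : D.T ⟶ Red.DS S ↥N := D.split.hom.hom.hom ≫ Red.DSmap S N.subtype

theorem dsFn_toN {X : Over S} (t : X ⟶ D.T) (m : N) :
    Gm.dsFn (t ≫ toN D N) m = Gm.dsFn (t ≫ D.split.hom.hom.hom) (m : D.M) := by
  rw [toN, ← Category.assoc, Gm.dsFn_DSmap]
  rfl

instance isMonHom_toN : IsMonHom (toN D N) := by
  haveI : IsMonHom (show D.T ⟶ Red.DS S D.M from D.split.hom.hom.hom) := D.split.hom.hom.isMonHom_hom
  haveI : IsMonHom (Red.DSmap S N.subtype) := Gm.isMonHom_DSmap _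
  exact inferInstanceAs (IsMonHom ((show D.T ⟶ Red.DS S D.M from D.split.hom.hom.hom) ≫ Red.DSmap S N.subtype))

variable {D} {N} (hN : ∀ m : D.M, m ∈ N ↔ ∀ a : D.idx, D.P.coroot a m = 0)

/-- The setup of the quotient by the coroots. -/
noncomputable def quotSetup (b : D.P.Base) {n m : ℕ} (eneg : Fin n → D.idx) (epos : Fin m → D.idx)
    (hneg : RedSub.Enumerates (RedSub.negRoots D.P b) eneg)
    (hpos : RedSub.Enumerates (RedSub.posRoots D.P b) epos) : Setup D (Red.DS S ↥N) where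
  b := b
  l := (Bruhat.exists_adapted b).choose
  hA := (Bruhat.exists_adapted b).choose_spec
  eneg := eneg
  epos := epos
  hneg := hneg
  hpos := hpos
  ψ := toN D N
  hom := isMonHom_toN D N
  hψ c X u := Gm.dsFn_ext fun k => by
    rw [dsFn_toN, dsFn_cochar, Gm.dsFn_one,
      show (D.P.coroot c).toAddMonoidHom (k : D.M) = 0 from (hN k).1 k.2 c, Gm.dsFn_zero]

/-- `D(M/N) ⟶ T`. -/
noncomputable def fromQuot (D : Red.SplitRed G) (N : AddSubgroup D.M) : Red.DS S (D.M ⧸ N) ⟶ D.T :=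
  Red.DSmap S (QuotientAddGroup.mk' N) ≫ D.split.inv.hom.hom

theorem fromQuot_toN : fromQuot D N ≫ toN D N = 1 := by
  refine Gm.dsFn_ext fun k => ?_
  rw [dsFn_toN, fromQuot, Category.assoc, split_inv_hom, Category.comp_id, Gm.dsFn_one]
  conv_lhs => rw [← Category.id_comp (Red.DSmap S (QuotientAddGroup.mk' N)), Gm.dsFn_DSmap]
  rw [show QuotientAddGroup.mk' N (k : D.M) = 0 from (QuotientAddGroup.eq_zero_iff _).2 k.2, Gm.dsFn_zero]

/-- A point of the torus killed by `N` comes from `D(M/N)`. -/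
theorem exists_fromQuot {X : Over S} {t : X ⟶ D.T} (ht : t ≫ toN D N = 1) :
    ∃ t' : X ⟶ Red.DS S (D.M ⧸ N), t' ≫ fromQuot D N = t := by
  let χ : D.M →+ Additive Γ(X.left, ⊤)ˣ :=
    AddMonoidHom.mk' (fun m => Additive.ofMul (Gm.isUnit_dsFn (t ≫ D.split.hom.hom.hom) m).unit) fun a c => by
      rw [← ofMul_mul]
      exact congrArg Additive.ofMul (Units.ext (Gm.dsFn_add _ _ _))
  have hχ : N ≤ χ.ker := fun m hm => by
    rw [AddMonoidHom.mem_ker]
    refine Additive.toMul.injective (Units.ext ?_)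
    change Gm.dsFn (t ≫ D.split.hom.hom.hom) m = 1
    have := dsFn_toN D N t ⟨m, hm⟩
    rw [ht, Gm.dsFn_one] at this
    exact this.symm
  let χ' := QuotientAddGroup.lift N χ hχ
  refine ⟨Gm.dsPt ((Units.coeHom _).comp χ'.toMultiplicativeLeft), ?_⟩
  refine ext_dsFn fun m => ?_
  rw [fromQuot, Category.assoc, Category.assoc, split_inv_hom, Category.comp_id, Gm.dsFn_DSmap, Gm.dsFn_dsPt]
  rfl

variable {b : D.P.Base} {n m : ℕ} {eneg : Fin n → D.idx} {epos : Fin m → D.idx}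
  (hneg : RedSub.Enumerates (RedSub.negRoots D.P b) eneg) (hpos : RedSub.Enumerates (RedSub.posRoots D.P b) epos)

/-- The map `U⁻ × D(M/N) × U ⟶ G`. -/
noncomputable abbrev primeMap (D : Red.SplitRed G) (N : AddSubgroup D.M) {n m : ℕ} (eneg : Fin n → D.idx)
    (epos : Fin m → D.idx) :
    RedSub.pow (Red.Ga S) n ⊗ (Red.DS S (D.M ⧸ N) ⊗ RedSub.pow (Red.Ga S) m) ⟶ G :=
  (fst _ _ ≫ RedSub.prodMap (Red.Ga S) n (fun k => D.u (eneg k))) *
    ((snd _ _ ≫ fst _ _ ≫ Red.DSmap S (QuotientAddGroup.mk' N) ≫ D.split.inv.hom.hom ≫ D.i) *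
      (snd _ _ ≫ snd _ _ ≫ RedSub.prodMap (Red.Ga S) m (fun k => D.u (epos k))))

/-- The inclusion of `Ω'` in `Ω`. -/
noncomputable abbrev primeIncl (D : Red.SplitRed G) (N : AddSubgroup D.M) (n m : ℕ) :
    RedSub.pow (Red.Ga S) n ⊗ (Red.DS S (D.M ⧸ N) ⊗ RedSub.pow (Red.Ga S) m) ⟶
      RedSub.pow (Red.Ga S) n ⊗ (D.T ⊗ RedSub.pow (Red.Ga S) m) :=
  lift (fst _ _) (lift (snd _ _ ≫ fst _ _ ≫ fromQuot D N) (snd _ _ ≫ snd _ _))

theorem primeIncl_cell : primeIncl D N n m ≫ RedSub.cellMap D eneg epos = primeMap D N eneg epos := by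
  refine (comp_cellMap epos _).trans ?_
  simp only [primeIncl, primeMap, lift_fst, lift_snd_assoc, lift_snd, fromQuot, Category.assoc]

theorem primeIncl_val (X : Over S) (g : X ⟶ RedSub.pow (Red.Ga S) n ⊗ (Red.DS S (D.M ⧸ N) ⊗ RedSub.pow (Red.Ga S) m)) :
    ((g ≫ primeIncl D N n m) ≫ snd _ _ ≫ fst _ _) ≫ toN D N = 1 := by
  simp only [primeIncl, Category.assoc, lift_snd_assoc, lift_fst_assoc, fromQuot_toN, MonObj.comp_one]

theorem exists_prime {X : Over S} (z : X ⟶ RedSub.pow (Red.Ga S) n ⊗ (D.T ⊗ RedSub.pow (Red.Ga S) m))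
    (hz : (z ≫ snd _ _ ≫ fst _ _) ≫ toN D N = 1) :
    ∃ z' : X ⟶ RedSub.pow (Red.Ga S) n ⊗ (Red.DS S (D.M ⧸ N) ⊗ RedSub.pow (Red.Ga S) m),
      z' ≫ primeIncl D N n m = z := by
  obtain ⟨t', ht'⟩ := exists_fromQuot hz
  refine ⟨lift (z ≫ fst _ _) (lift t' (z ≫ snd _ _ ≫ snd _ _)), ?_⟩
  apply CartesianMonoidalCategory.hom_ext
  · simp [primeIncl]
  · apply CartesianMonoidalCategory.hom_ext <;> simp [primeIncl, ht']

include hN hneg hpos in
/-- The homomorphism of the group on the torus quotient, on `Ω'`. -/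
theorem prime_extend {X : Over S} (g : X ⟶ RedSub.pow (Red.Ga S) n ⊗ (Red.DS S (D.M ⧸ N) ⊗ RedSub.pow (Red.Ga S) m)) :
    (g ≫ primeMap D N eneg epos) ≫ extend (quotSetup hN b eneg epos hneg hpos) = 1 := by
  rw [← primeIncl_cell, ← Category.assoc g]
  exact extend_cell (quotSetup hN b eneg epos hneg hpos) ⟨g ≫ primeIncl D N n m, rfl, primeIncl_val X g⟩

include hN hneg hpos in
/-- A point of the big cell killed by the homomorphism lies in `Ω'`. -/
theorem exists_prime_of_extend {X : Over S} {p : X ⟶ G}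
    (hp : Set.range p.left.base ⊆ Set.range (RedSub.cellMap D eneg epos).left.base)
    (h1 : p ≫ extend (quotSetup hN b eneg epos hneg hpos) = 1) :
    ∃ g' : X ⟶ RedSub.pow (Red.Ga S) n ⊗ (Red.DS S (D.M ⧸ N) ⊗ RedSub.pow (Red.Ga S) m),
      p = g' ≫ primeMap D N eneg epos := by
  let Q := quotSetup hN b eneg epos hneg hpos
  haveI : IsOpenImmersion (RedSub.cellMap D eneg epos).left := inferInstanceAs (IsOpenImmersion Q.cell.left)
  obtain ⟨z, hz⟩ := exists_factor (RedSub.cellMap D eneg epos) p hp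
  have := extend_cell Q (h := p) ⟨z, hz, rfl⟩
  obtain ⟨g', hg'⟩ := exists_prime (N := N) z (this.symm.trans h1)
  exact ⟨g', by rw [← primeIncl_cell, ← Category.assoc, hg', hz]⟩

end Groth.Agent.H82.R2.CorootChar
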