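import Groth.Agent.H82.R2.CorootChar.Lattice
import Groth.Agent.H87.TorusIn
import Groth.Agent.Lib.MTExt.PowFinite

/-!
# The radical of a split group
-/

set_option autoImplicit false
set_option maxHeartbeats 800000
set_option linter.style.haveILetI false
set_option linter.unusedSectionVars false
universe u

open CategoryTheory MonoidalCategory CartesianMonoidalCategory MonObj GrpObj AlgebraicGeometry
open Groth.Agent.Lib.RedPts Groth.Agent.H82.BigCell Groth.Agent.H82.Contract Groth.Agent.H82.Weyl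
open Groth.Agent.H82.RankOne (P P_eq P_zero P_comp P_add P_neg)
open Groth.Agent.H82.R2.CorootChar

namespace Groth.Agent.H82.R2.Radical

variable {S : Scheme.{u}}

theorem finite_mapDomain {A B : Type} [AddCommGroup A] [AddCommGroup B] [AddGroup.FG B] (φ : A →+ B)
    (h : ∀ y, ∃ n : ℕ, 0 < n ∧ n • y ∈ φ.range) (R : Type u) [CommRing R] :
    ((MonoidAlgebra.mapDomainAlgHom R R (AddMonoidHom.toMultiplicative φ)).toRingHom).Finite := by
  haveI : AddMonoid.FG B := AddGroup.fg_iff_addMonoid_fg.mp inferInstance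
  haveI : Monoid.FG (Multiplicative B) := inferInstance
  let f := MonoidAlgebra.mapDomainAlgHom R R (AddMonoidHom.toMultiplicative φ)
  refine RingHom.IsIntegral.to_finite (fun x => ?_) ?_
  · induction x using MonoidAlgebra.induction_linear with
    | zero => exact f.toRingHom.isIntegralElem_zero
    | add a b ha hb => exact ha.add _ hb
    | single m r =>
      obtain ⟨n, hn, a, ha⟩ := h m.toAdd
      have h1 : MonoidAlgebra.single m r = f (MonoidAlgebra.single 1 r) * MonoidAlgebra.single m 1 := by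
        simp [f, MonoidAlgebra.single_mul_single]
      have hm : m ^ n = AddMonoidHom.toMultiplicative φ (Multiplicative.ofAdd a) := by
        apply Multiplicative.toAdd.injective
        simpa using ha.symm
      have h2 : (MonoidAlgebra.single m 1 : MonoidAlgebra R (Multiplicative B)) ^ n =
          f (MonoidAlgebra.single (Multiplicative.ofAdd a) 1) := by
        rw [MonoidAlgebra.single_pow, one_pow, hm]
        simp [f]
      rw [h1]
      refine RingHom.IsIntegralElem.mul _ (f.toRingHom.isIntegralElem_map) ?_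
      refine ⟨Polynomial.X ^ n - Polynomial.C (MonoidAlgebra.single (Multiplicative.ofAdd a) 1),
        Polynomial.monic_X_pow_sub_C _ hn.ne', ?_⟩
      rw [Polynomial.eval₂_sub, Polynomial.eval₂_X_pow, Polynomial.eval₂_C, h2]
      exact sub_self _
  · exact RingHom.FiniteType.of_comp_finiteType (f := algebraMap R _) (by
      show (f.toRingHom.comp (algebraMap R _)).FiniteType
      rw [show f.toRingHom.comp (algebraMap R _) = algebraMap R _ from f.comp_algebraMap, RingHom.finiteType_algebraMap]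
      infer_instance)

theorem isFinite_DSmap {A B : Type} [AddCommGroup A] [AddCommGroup B] [AddGroup.FG B] (φ : A →+ B)
    (h : ∀ y, ∃ n : ℕ, 0 < n ∧ n • y ∈ φ.range) : IsFinite (Red.DSmap S φ).left := by
  refine Groth.Agent.H87.Charts.fib_of @IsFinite _ (Red.diagMap (ULift.{u} ℤ) φ) ?_
  show IsFinite (Spec.map _)
  rw [IsFinite.SpecMap_iff, CommRingCat.hom_ofHom]
  exact finite_mapDomain φ h _

theorem comp_DSmap_mul {A B : Type} [AddCommGroup A] [AddCommGroup B] (φ : A →+ B) {X : Over S}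
    (x y : X ⟶ Red.DS S B) : (x * y) ≫ Red.DSmap S φ = (x ≫ Red.DSmap S φ) * (y ≫ Red.DSmap S φ) :=
  haveI := Gm.isMonHom_DSmap (S := S) φ
  MonObj.mul_comp _ _ _

variable {G : Over S} [GrpObj G] {D : Red.SplitRed G}

theorem mono_fromQuot' (N : AddSubgroup D.M) : Mono (fromQuot D N) := by
  haveI := Groth.Agent.H87.Loci.mono_DSmap_of_surjective S (φ := QuotientAddGroup.mk' N) (QuotientAddGroup.mk'_surjective N)
  refine ⟨fun {X} a a' h => (cancel_mono (Red.DSmap S (QuotientAddGroup.mk' N))).1 ?_⟩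
  have h2 := congrArg (· ≫ D.split.hom.hom.hom) h
  simpa only [fromQuot, Category.assoc, split_inv_hom, Category.comp_id] using h2

theorem isMonHom_fromQuot' (N : AddSubgroup D.M) : IsMonHom (fromQuot D N) := by
  haveI : IsMonHom (show Red.DS S D.M ⟶ D.T from D.split.inv.hom.hom) := D.split.inv.hom.isMonHom_hom
  haveI : IsMonHom (Red.DSmap S (QuotientAddGroup.mk' N)) := Gm.isMonHom_DSmap _
  exact inferInstanceAs (IsMonHom (Red.DSmap S (QuotientAddGroup.mk' N) ≫ (show Red.DS S D.M ⟶ D.T from D.split.inv.hom.hom)))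

/-- A point of the torus killed by the root lattice is central. -/
theorem central_of_killed {X : Over S} {t : X ⟶ D.T} (ht : t ≫ toN D (rootLat D) = 1)
    (h : X ⟶ G) : (t ≫ D.i) * h = h * (t ≫ D.i) := by
  refine commute_all (D := D) (fun Y f s => ?_) (fun a Y f x => ?_) h
  · rw [← Category.assoc, ← MonObj.mul_comp, ← MonObj.mul_comp, torus_comm D]
  · have hχ : Red.gmFn ((f ≫ t) ≫ chr D (D.P.root a)) = 1 := by
      rw [chr, ← Category.assoc, Gm.gmFn_chi]
      have h1 := dsFn_toN D (rootLat D) (f ≫ t) ⟨D.P.root a, root_mem a⟩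
      rw [Category.assoc, ht, MonObj.comp_one, Gm.dsFn_one] at h1
      exact h1.symm
    have := isRootPts D a (f ≫ t) (Red.gaFn x)
    rw [hχ, _root_.one_mul, ← P_eq, Category.assoc] at this
    exact this.symm

/-- A central point lies in the torus and is killed by the root lattice. -/
theorem exists_of_central {X : Over S} {g : X ⟶ G}
    (hg : ∀ (Y : Over S) (f : Y ⟶ X) (h : Y ⟶ G), (f ≫ g) * h = h * (f ≫ g)) :
    ∃ t : X ⟶ D.T, t ≫ D.i = g ∧ t ≫ toN D (rootLat D) = 1 := by
  obtain ⟨t, rfl⟩ := exists_torus_of_commute_torus (D := D) fun Y f s => (hg Y f _).symm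
  refine ⟨t, rfl, Gm.dsFn_ext fun k => ?_⟩
  rw [dsFn_toN, Gm.dsFn_one]
  obtain ⟨k, hk⟩ := k
  change Gm.dsFn (t ≫ D.split.hom.hom.hom) k = 1
  induction hk using Submodule.span_induction with
  | mem k hk =>
    obtain ⟨a, rfl⟩ := hk
    have h1 := isRootPts D a t (1 : Γ(X.left, ⊤))
    have h2 := hg X (𝟙 X) (P (D.u a) 1)
    rw [Category.id_comp, h1] at h2
    have h3 := mul_right_cancel h2
    haveI : Mono (D.u a) := mono_of_isClosedImmersion _ (D.rootHom a).2.1
    have h4 := congrArg Red.gaFn ((cancel_mono (D.u a)).1 h3)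
    rw [Ga.gaFn_gaPt, Ga.gaFn_gaPt, _root_.mul_one, chr, ← Category.assoc, Gm.gmFn_chi] at h4
    exact h4
  | zero => exact Gm.dsFn_zero _
  | add x y _ _ hx hy => rw [Gm.dsFn_add, hx, hy, _root_.mul_one]
  | smul r x _ hx =>
    induction r using Int.induction_on with
    | zero => rw [zero_smul]; exact Gm.dsFn_zero _
    | succ i ih => rw [add_smul, one_smul, Gm.dsFn_add, ih, hx, _root_.mul_one]
    | pred i ih =>
      have h := Gm.dsFn_add (t ≫ D.split.hom.hom.hom) ((-(i : ℤ) - 1) • x) x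
      rw [sub_smul, one_smul, sub_add_cancel, ih, hx, _root_.mul_one] at h
      rw [sub_smul, one_smul]
      exact h.symm

variable {Z : Over S} [GrpObj Z] {j : Z ⟶ G} (hZ : Red.IsCentre j)
include hZ

theorem comm_centre (X : Over S) (a c : X ⟶ Z) : a * c = c * a := by
  haveI := hZ.1
  haveI := hZ.2.1
  rw [← cancel_mono j, MonObj.mul_comp, MonObj.mul_comp]
  have := (hZ.2.2 X (a ≫ j)).1 ⟨a, rfl⟩ X (𝟙 X) (c ≫ j)
  simpa using this

theorem exists_lift {X : Over S} {t : X ⟶ D.T} (ht : t ≫ toN D (rootLat D) = 1) :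
    ∃ z : X ⟶ Z, z ≫ j = t ≫ D.i :=
  (hZ.2.2 X _).2 fun X' x h => by
    rw [Category.comp_id, ← Category.assoc]
    exact central_of_killed (by rw [Category.assoc, ht, MonObj.comp_one]) h

theorem exists_torus_centre {X : Over S} (z : X ⟶ Z) :
    ∃ t : X ⟶ D.T, t ≫ D.i = z ≫ j ∧ t ≫ toN D (rootLat D) = 1 :=
  exists_of_central fun Y f h => by
    have := (hZ.2.2 X (z ≫ j)).1 ⟨z, rfl⟩ Y f h
    rwa [Category.comp_id] at this

/-- The centre is the diagonalizable group of the characters modulo roots. -/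
theorem exists_iso : ∃ e : Red.DS S (D.M ⧸ rootLat D) ≅ Z, e.hom ≫ j = fromQuot D (rootLat D) ≫ D.i := by
  haveI := hZ.2.1
  haveI := D.maximalTorus.2.1
  haveI : Mono (fromQuot D (rootLat D)) := mono_fromQuot' _
  obtain ⟨a, ha⟩ := exists_lift hZ (t := fromQuot D (rootLat D)) fromQuot_toN
  obtain ⟨t, ht, ht'⟩ := exists_torus_centre hZ (D := D) (𝟙 Z)
  obtain ⟨c, hc⟩ := exists_fromQuot (N := rootLat D) ht'
  rw [Category.id_comp] at ht
  refine ⟨⟨a, c, ?_, ?_⟩, ha⟩
  · rw [← cancel_mono (fromQuot D (rootLat D)), ← cancel_mono D.i]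
    simp only [Category.assoc, hc, ht, ha, Category.id_comp]
  · rw [← cancel_mono j, Category.assoc, ha, ← Category.assoc, hc, ht, Category.id_comp]

theorem centre_props (D : Red.SplitRed G) : IsSeparated Z.hom ∧ LocallyOfFinitePresentation Z.hom := by
  obtain ⟨e, -⟩ := exists_iso hZ (D := D)
  haveI : IsIso e.inv.left := inferInstanceAs (IsIso ((Over.forget S).map e.inv))
  haveI := isAffineHom_DS (S := S) (D.M ⧸ rootLat D)
  haveI : AddGroup.FG (D.M ⧸ rootLat D) := Module.Finite.iff_addGroup_fg.1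
    (Module.Finite.of_surjective (QuotientAddGroup.mk' _).toIntLinearMap (QuotientAddGroup.mk'_surjective _))
  haveI := Groth.Agent.Lib.Tori.DS.locallyOfFinitePresentation S (D.M ⧸ rootLat D)
  rw [← Over.w e.inv]
  exact ⟨inferInstance, inferInstance⟩

/-- The saturated quotient inside the centre is a maximal torus of it. -/
theorem exists_maxTorus : ∃ z₀ : Red.DS S (D.M ⧸ satLat D) ⟶ Z,
    z₀ ≫ j = fromQuot D (satLat D) ≫ D.i ∧ Red.IsMaximalTorus z₀ := by
  classical
  haveI := free_sat (D := D)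
  haveI := finite_sat (D := D)
  haveI := hZ.1
  haveI := hZ.2.1
  haveI := D.maximalTorus.2.1
  haveI : Mono (fromQuot D (satLat D)) := mono_fromQuot' _
  haveI := isMonHom_fromQuot' (D := D) (satLat D)
  have hkill : fromQuot D (satLat D) ≫ toN D (rootLat D) = 1 := Gm.dsFn_ext fun k => by
    have h1 := dsFn_toN D (satLat D) (fromQuot D (satLat D)) ⟨k.1, rootLat_le k.2⟩
    rw [fromQuot_toN, Gm.dsFn_one] at h1
    rw [dsFn_toN, Gm.dsFn_one]
    exact h1.symm
  obtain ⟨z₀, hz₀⟩ := exists_lift hZ hkill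
  haveI : Mono z₀ := by
    haveI : Mono (z₀ ≫ j) := hz₀ ▸ inferInstance
    exact mono_of_mono z₀ j
  haveI : IsMonHom z₀ := Groth.Agent.H87.HomDS.isMonHom_of_points z₀ fun X x y => by
    rw [← cancel_mono j]
    simp only [MonObj.mul_comp _ _ j, Category.assoc, hz₀]
    rw [← Category.assoc, ← Category.assoc x, ← Category.assoc y, MonObj.mul_comp _ _ (fromQuot D (satLat D)),
      MonObj.mul_comp _ _ D.i]
  refine ⟨z₀, hz₀, inferInstance, inferInstance, Groth.Agent.Lib.Tori.Basic.isTorus_DS S _,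
    fun s T'' _ j'' _ _ fT hT'' hf => ?_⟩
  let y := Red.geomPt s
  obtain ⟨t, ht, ht'⟩ := exists_torus_centre hZ (D := D) (BC.down y j'')
  obtain ⟨r, ⟨ε⟩⟩ := Groth.Agent.H87.TorusIn.exists_split T'' hT''
  have hsat : t ≫ toN D (satLat D) = 1 := Gm.dsFn_ext fun k => by
    obtain ⟨n, hn, hk⟩ := mem_satLat.1 k.2
    rw [dsFn_toN, Gm.dsFn_one]
    let pw : T'' ⟶ T'' := 𝟙 T'' ^ n
    haveI : Epi ((Over.map y).map pw).left := by
      change Epi pw.left
      have hpw : pw = (Groth.Agent.Lib.Tori.BaseChange.overIso ε).hom ≫ Red.DSmap (Spec (CommRingCat.of (AlgebraicClosure (S.residueField s)))) (n • AddMonoidHom.id (Fin r → ℤ)) ≫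
          (Groth.Agent.Lib.Tori.BaseChange.overIso ε).inv := by
        let c := Groth.Agent.Lib.Tori.BaseChange.overIso ε
        change (𝟙 T'' ^ n : T'' ⟶ T'') = c.hom ≫ _ ≫ c.inv
        rw [← Groth.Agent.Lib.MTExt.pow_DS, ← Category.assoc, MonObj.comp_pow, Category.comp_id,
          ← cancel_mono c.hom, Category.assoc, Iso.inv_hom_id, Category.comp_id]
        exact (@MonObj.pow_comp _ _ _ _ _ _ _ _ (𝟙 T'') n c.hom
          (Groth.Agent.Lib.Tori.BaseChange.isMonHom_overIso ε)).trans (by rw [Category.id_comp])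
      obtain ⟨hfl, hsu⟩ := Groth.Agent.H87.Loci.ff_DSmap (Spec (CommRingCat.of (AlgebraicClosure (S.residueField s)))) (φ := n • AddMonoidHom.id (Fin r → ℤ))
        (fun a b hab => by
          haveI : IsAddTorsionFree (Fin r → ℤ) := .of_isTorsionFree ℤ _
          exact nsmul_right_injective hn.ne' hab)
      haveI := hfl
      haveI := hsu
      haveI : QuasiCompact (Red.DSmap (Spec (CommRingCat.of (AlgebraicClosure (S.residueField s)))) (n • AddMonoidHom.id (Fin r → ℤ))).left := by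
        haveI := isAffineHom_DS (S := (Spec (CommRingCat.of (AlgebraicClosure (S.residueField s))))) (Fin r → ℤ)
        haveI : QuasiCompact ((Red.DSmap (Spec (CommRingCat.of (AlgebraicClosure (S.residueField s)))) (n • AddMonoidHom.id (Fin r → ℤ))).left ≫ (Red.DS (Spec (CommRingCat.of (AlgebraicClosure (S.residueField s)))) (Fin r → ℤ)).hom) := by
          rw [Over.w]; infer_instance
        exact QuasiCompact.of_comp (Red.DSmap (Spec (CommRingCat.of (AlgebraicClosure (S.residueField s)))) (n • AddMonoidHom.id (Fin r → ℤ))).left (Red.DS (Spec (CommRingCat.of (AlgebraicClosure (S.residueField s)))) (Fin r → ℤ)).hom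
      haveI : Epi (Red.DSmap (Spec (CommRingCat.of (AlgebraicClosure (S.residueField s)))) (n • AddMonoidHom.id (Fin r → ℤ))).left := Flat.epi_of_flat_of_surjective _
      haveI : IsIso (Groth.Agent.Lib.Tori.BaseChange.overIso ε).hom.left := inferInstanceAs (IsIso ((Over.forget _).map (Groth.Agent.Lib.Tori.BaseChange.overIso ε).hom))
      haveI : IsIso (Groth.Agent.Lib.Tori.BaseChange.overIso ε).inv.left := inferInstanceAs (IsIso ((Over.forget _).map (Groth.Agent.Lib.Tori.BaseChange.overIso ε).inv))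
      rw [hpw, Over.comp_left, Over.comp_left]
      infer_instance
    have hmap : (Over.map y).map pw ≫ t = t ^ n := by
      rw [← cancel_mono D.i, MonObj.pow_comp, Category.assoc, ht, ← Category.assoc, ← BC.down_comp]
      rw [show pw ≫ j'' = j'' ^ n by rw [MonObj.pow_comp, Category.id_comp]]
      rw [show BC.down y (j'' ^ n) = BC.down y j'' ^ n from map_pow (BC.downMulEquiv y T'' Z) j'' n,
        MonObj.pow_comp]
    have h1 : (Over.map y).map pw ≫ Gm.gmPt (Gm.isUnit_dsFn (t ≫ D.split.hom.hom.hom) (k : D.M)).unit = 1 := by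
      refine Gm.gmFn_injective ?_
      rw [Gm.gmFn_comp, Gm.gmFn_gmPt, Gm.gmFn_one, IsUnit.unit_spec, ← Gm.dsFn_comp, ← Category.assoc, hmap]
      haveI : IsMonHom (show D.T ⟶ Red.DS S D.M from D.split.hom.hom.hom) := D.split.hom.hom.isMonHom_hom
      rw [MonObj.pow_comp t n (show D.T ⟶ Red.DS S D.M from D.split.hom.hom.hom), Gm.dsFn_pow, ← Gm.dsFn_nsmul]
      have h2 := dsFn_toN D (rootLat D) t ⟨n • (k : D.M), hk⟩
      rw [ht', Gm.dsFn_one] at h2
      exact h2.symm
    have h2 := RankOne.eq_of_epi (c := (Over.map y).map pw) inferInstance (h1.trans (MonObj.comp_one _).symm)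
    have h3 := congrArg Red.gmFn h2
    rwa [Gm.gmFn_gmPt, Gm.gmFn_one, IsUnit.unit_spec] at h3
  obtain ⟨t', ht''⟩ := exists_fromQuot (N := satLat D) hsat
  let h := BC.up y t'
  haveI : Mono ((Over.pullback y).map z₀) := inferInstance
  have hh : h ≫ (Over.pullback y).map z₀ = j'' := BC.down_injective ((cancel_mono j).1 (by
    rw [BC.down_map, BC.down_up, Category.assoc, hz₀, ← Category.assoc, ht'', ht]))
  exact ⟨h, (cancel_mono ((Over.pullback y).map z₀)).1 (by rw [Category.assoc, hh, hf, Category.id_comp]),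
    (cancel_mono j'').1 (by rw [Category.assoc, hf, hh, Category.id_comp])⟩

variable {R : Over S} [GrpObj R] (r : R ⟶ Z) (hR : Red.IsMaximalTorus r)
include hR

/-- The radical is the saturated quotient. -/
theorem exists_radical_iso : ∃ e : R ≅ Red.DS S (D.M ⧸ satLat D),
    e.hom ≫ fromQuot D (satLat D) ≫ D.i = r ≫ j := by
  obtain ⟨z₀, hz₀, hmax⟩ := exists_maxTorus hZ (D := D)
  obtain ⟨h1, h2⟩ := centre_props hZ D
  haveI := hR.1
  haveI := hR.2.1
  haveI := hmax.1
  haveI := hmax.2.1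
  obtain ⟨a, ha⟩ := Groth.Agent.H87.TorusIn.exists_fac z₀ hmax r hR.2.2.1 fun X p q => comm_centre hZ X _ _
  obtain ⟨c, hc⟩ := Groth.Agent.H87.TorusIn.exists_fac r hR z₀ hmax.2.2.1 fun X p q => comm_centre hZ X _ _
  refine ⟨⟨a, c, ?_, ?_⟩, ?_⟩
  · rw [← cancel_mono r, Category.assoc, hc, ha, Category.id_comp]
  · rw [← cancel_mono z₀, Category.assoc, ha, hc, Category.id_comp]
  · rw [← hz₀, ← Category.assoc, ha]

end Groth.Agent.H82.R2.Radical

namespace Groth.Agent.H82.R2.Radical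

variable {S : Scheme.{u}} {A B : Type} [AddCommGroup A] [AddCommGroup B]

/-- The diagonalizable group of a product. -/
noncomputable def prodIso : Red.DS S (A × B) ≅ Red.DS S A ⊗ Red.DS S B where
  hom := lift (Red.DSmap S (AddMonoidHom.inl A B)) (Red.DSmap S (AddMonoidHom.inr A B))
  inv := (fst _ _ ≫ Red.DSmap S (AddMonoidHom.fst A B)) * (snd _ _ ≫ Red.DSmap S (AddMonoidHom.snd A B))
  hom_inv_id := by
    refine Gm.dsFn_ext fun k => ?_
    rw [MonObj.comp_mul, lift_fst_assoc, lift_snd_assoc, Gm.dsFn_mul]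
    conv_rhs => rw [show k = AddMonoidHom.inl A B k.1 + AddMonoidHom.inr A B k.2 by simp, Gm.dsFn_add]
    rw [Gm.dsFn_DSmap, Gm.dsFn_DSmap]
    congr 1
    · conv_lhs => rw [← Category.id_comp (Red.DSmap S _), Gm.dsFn_DSmap]
      rfl
    · conv_lhs => rw [← Category.id_comp (Red.DSmap S _), Gm.dsFn_DSmap]
      rfl
  inv_hom_id := by
    apply CartesianMonoidalCategory.hom_ext
    · rw [Category.assoc, lift_fst, Category.id_comp]
      refine Gm.dsFn_ext fun a => ?_
      rw [Gm.dsFn_DSmap, Gm.dsFn_mul, Gm.dsFn_DSmap, Gm.dsFn_DSmap]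
      simp [Gm.dsFn_zero]
    · rw [Category.assoc, lift_snd, Category.id_comp]
      refine Gm.dsFn_ext fun a => ?_
      rw [Gm.dsFn_DSmap, Gm.dsFn_mul, Gm.dsFn_DSmap, Gm.dsFn_DSmap]
      simp [Gm.dsFn_zero]

theorem prodIso_inv_DSmap {C : Type} [AddCommGroup C] (φ : C →+ A) (χ : C →+ B) :
    (prodIso (S := S) (A := A) (B := B)).inv ≫ Red.DSmap S (φ.prod χ) =
      (fst _ _ ≫ Red.DSmap S φ) * (snd _ _ ≫ Red.DSmap S χ) := by
  refine Gm.dsFn_ext fun c => ?_
  simp only [prodIso, Gm.dsFn_DSmap, Gm.dsFn_mul, AddMonoidHom.prod_apply, AddMonoidHom.coe_fst, AddMonoidHom.coe_snd]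

variable {G Z R : Over S} [GrpObj G] [GrpObj Z] [GrpObj R] {D : Red.SplitRed G}

/-- The radical and the coroot torus generate the torus up to isogeny. -/
theorem isogeny {j : Z ⟶ G} (hZ : Red.IsCentre j) (r : R ⟶ Z) (hR : Red.IsMaximalTorus r)
    (r' : R ⟶ D.T) (hr' : r' ≫ D.i = r ≫ j)
    {N : AddSubgroup D.M} (hN : ∀ m : D.M, m ∈ N ↔ ∀ a : D.idx, D.P.coroot a m = 0) :
    Surjective ((r' ⊗ₘ fromQuot D N) ≫ μ[D.T]).left ∧ Flat ((r' ⊗ₘ fromQuot D N) ≫ μ[D.T]).left ∧
      IsFinite ((r' ⊗ₘ fromQuot D N) ≫ μ[D.T]).left := by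
  classical
  haveI := D.maximalTorus.2.1
  haveI := finite_quot hN
  haveI := finite_sat (D := D)
  obtain ⟨e, he⟩ := exists_radical_iso hZ (D := D) r hR
  let Q := satLat D
  let φ : D.M →+ (D.M ⧸ Q) × (D.M ⧸ N) := (QuotientAddGroup.mk' Q).prod (QuotientAddGroup.mk' N)
  have hr : r' = e.hom ≫ fromQuot D Q := by rw [← cancel_mono D.i, hr', Category.assoc, he]
  have hinj : Function.Injective φ := (injective_iff_map_eq_zero _).2 fun m hm =>
    sat_inf_eq_zero hN ((QuotientAddGroup.eq_zero_iff _).1 (congrArg Prod.fst hm))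
      ((QuotientAddGroup.eq_zero_iff _).1 (congrArg Prod.snd hm))
  have hcok : ∀ y, ∃ d : ℕ, 0 < d ∧ d • y ∈ φ.range := by
    rintro ⟨x, y⟩
    obtain ⟨a, rfl⟩ := QuotientAddGroup.mk'_surjective Q x
    obtain ⟨c, rfl⟩ := QuotientAddGroup.mk'_surjective N y
    obtain ⟨p, qa, hp, hqa, ha⟩ := exists_decomp hN a
    obtain ⟨q, qc, hq, hqc, hc⟩ := exists_decomp hN c
    refine ⟨p * q, Nat.mul_pos hp hq, q • (p • a - qa) + p • qc, Prod.ext ?_ ?_⟩
    · change QuotientAddGroup.mk' Q _ = (p * q) • QuotientAddGroup.mk' Q a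
      have h1 : QuotientAddGroup.mk' Q qa = 0 := (QuotientAddGroup.eq_zero_iff _).2 (rootLat_le hqa)
      have h2 : QuotientAddGroup.mk' Q qc = 0 := (QuotientAddGroup.eq_zero_iff _).2 (rootLat_le hqc)
      rw [map_add, map_nsmul, map_nsmul, map_sub, map_nsmul, h1, h2, sub_zero, nsmul_zero, add_zero, smul_smul, mul_comm]
    · change QuotientAddGroup.mk' N _ = (p * q) • QuotientAddGroup.mk' N c
      have h1 : QuotientAddGroup.mk' N (p • a - qa) = 0 := (QuotientAddGroup.eq_zero_iff _).2 ha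
      have h2 : QuotientAddGroup.mk' N (q • c - qc) = 0 := (QuotientAddGroup.eq_zero_iff _).2 hc
      rw [map_sub, map_nsmul, sub_eq_zero] at h2
      rw [map_add, map_nsmul, map_nsmul, h1, nsmul_zero, zero_add, ← h2, smul_smul]
  haveI : AddGroup.FG ((D.M ⧸ Q) × (D.M ⧸ N)) := Module.Finite.iff_addGroup_fg.1 inferInstance
  obtain ⟨hfl, hsu⟩ := Groth.Agent.H87.Loci.ff_DSmap S hinj
  haveI := hfl
  haveI := hsu
  haveI := isFinite_DSmap (S := S) φ hcok
  haveI : IsMonHom (show Red.DS S D.M ⟶ D.T from D.split.inv.hom.hom) := D.split.inv.hom.isMonHom_hom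
  have hfac : (r' ⊗ₘ fromQuot D N) ≫ μ[D.T] =
      (e.hom ⊗ₘ 𝟙 _) ≫ (prodIso (S := S) (A := D.M ⧸ Q) (B := D.M ⧸ N)).inv ≫ Red.DSmap S φ ≫
        (show Red.DS S D.M ⟶ D.T from D.split.inv.hom.hom) := by
    rw [← Category.assoc ((prodIso (S := S) (A := D.M ⧸ Q) (B := D.M ⧸ N)).inv), prodIso_inv_DSmap,
      MonObj.mul_comp _ _ (show Red.DS S D.M ⟶ D.T from D.split.inv.hom.hom), MonObj.comp_mul, hr]
    simp only [fromQuot, Category.assoc, Hom.mul_def]
    congr 1
    apply CartesianMonoidalCategory.hom_ext <;> simp [Q]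
  haveI h1 : IsIso (e.hom ⊗ₘ 𝟙 (Red.DS S (D.M ⧸ N))).left :=
    inferInstanceAs (IsIso ((Over.forget S).map (e.hom ⊗ₘ 𝟙 (Red.DS S (D.M ⧸ N)))))
  haveI h2 : IsIso (prodIso (S := S) (A := D.M ⧸ Q) (B := D.M ⧸ N)).inv.left :=
    inferInstanceAs (IsIso ((Over.forget S).map (prodIso (S := S) (A := D.M ⧸ Q) (B := D.M ⧸ N)).inv))
  haveI h3 : IsIso (show Red.DS S D.M ⟶ D.T from D.split.inv.hom.hom).left :=
    inferInstanceAs (IsIso ((Over.forget S).map ((Grp.forget (Over S)).map D.split.inv)))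
  rw [hfac]
  simp only [Over.comp_left]
  exact ⟨inferInstance, inferInstance, inferInstance⟩

end Groth.Agent.H82.R2.Radical
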