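import Groth.Agent.H82.R2.TranslateCover

/-!
# The value of a coroot-killing morphism on the big cell
-/

set_option autoImplicit false
set_option maxHeartbeats 800000
set_option linter.style.haveILetI false
set_option linter.unusedSectionVars false
universe u

open CategoryTheory MonoidalCategory CartesianMonoidalCategory MonObj GrpObj AlgebraicGeometry
open Groth.Agent.Lib.RedPts Groth.Agent.H82.BigCell Groth.Agent.H82.Contract Groth.Agent.H82.Weyl
open Groth.Agent.H82.RankOne (P P_eq P_add P_zero P_neg P_comp Sys)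
open Groth.Agent.H82.Borel (IsACPt root_neg_idx exists_enum)
open Groth.Agent.H82.Bruhat (Adapted unip root_mem_unip rp InCell)

namespace Groth.Agent.H82.R2.CorootChar

variable {S : Scheme.{u}} {G : Over S} [GrpObj G]

/-- A regular functional adapted to a base, enumerations of the roots of either sign and a homomorphism of the
torus killing the coroots. -/
structure Setup (D : Red.SplitRed G) (A : Over S) [GrpObj A] where
  b : D.P.Base
  l : D.M →+ ℤ
  hA : Adapted b l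
  {n m : ℕ}
  eneg : Fin n → D.idx
  epos : Fin m → D.idx
  hneg : RedSub.Enumerates (RedSub.negRoots D.P b) eneg
  hpos : RedSub.Enumerates (RedSub.posRoots D.P b) epos
  ψ : D.T ⟶ A
  hom : IsMonHom ψ
  hψ : ∀ (c : D.idx) (X : Over S) (u : Γ(X.left, ⊤)ˣ),
    (Gm.gmPt u ≫ cochar D (D.P.coroot c).toAddMonoidHom) ≫ ψ = 1

attribute [instance] Setup.hom

variable {D : Red.SplitRed G} {A : Over S} [GrpObj A] (Q : Setup D A)

/-- The big cell. -/
noncomputable abbrev Setup.dom (Q : Setup D A) : Over S :=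
  RedSub.pow (Red.Ga S) Q.n ⊗ (D.T ⊗ RedSub.pow (Red.Ga S) Q.m)

/-- The big cell map. -/
noncomputable abbrev Setup.cell (Q : Setup D A) : Q.dom ⟶ G := RedSub.cellMap D Q.eneg Q.epos

theorem Setup.he (Q : Setup D A) (k : Fin Q.n) : Q.l (D.P.root (Q.eneg k)) < 0 :=
  (Q.hA.neg _).1 (Set.ext_iff.1 Q.hneg.2 _ |>.1 (Set.mem_range_self k))

theorem Setup.he' (Q : Setup D A) (k : Fin Q.m) : 0 < Q.l (D.P.root (Q.epos k)) :=
  (Q.hA.pos _).1 (Set.ext_iff.1 Q.hpos.2 _ |>.1 (Set.mem_range_self k))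

instance : Mono Q.cell := mono_cellMap Q.hneg.1 Q.hpos.1 Q.he Q.he'

instance : IsOpenImmersion Q.cell.left := by
  have h1 := Q.hneg; have h2 := Q.hpos
  rw [Bruhat.negRoots_eq Q.hA] at h1
  rw [Bruhat.posRoots_eq Q.hA] at h2
  exact (Bruhat.isOpenImmersion_cell Q.hA.ne h1 h2).2.2

/-- `g` lies in the big cell and `q` is the value of `ψ` on its torus component. -/
def Val {X : Over S} (g : X ⟶ G) (q : X ⟶ A) : Prop :=
  ∃ z : X ⟶ Q.dom, z ≫ Q.cell = g ∧ (z ≫ snd _ _ ≫ fst _ _) ≫ Q.ψ = q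

theorem Val.comp {X X' : Over S} {g : X ⟶ G} {q : X ⟶ A} (h : Val Q g q) (c : X' ⟶ X) :
    Val Q (c ≫ g) (c ≫ q) := by
  obtain ⟨z, rfl, rfl⟩ := h
  exact ⟨c ≫ z, Category.assoc _ _ _, by simp only [Category.assoc]⟩

theorem Val.unique {X : Over S} {g : X ⟶ G} {q q' : X ⟶ A} (h : Val Q g q) (h' : Val Q g q') : q = q' := by
  obtain ⟨z, rfl, rfl⟩ := h
  obtain ⟨z', hz, rfl⟩ := h'
  rw [(cancel_mono Q.cell).1 hz]

theorem Val.big {X : Over S} {g : X ⟶ G} {q : X ⟶ A} (h : Val Q g q) : Big D Q.l g := by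
  obtain ⟨z, rfl, -⟩ := h
  exact big_comp_cellMap Q.hA Q.hneg Q.hpos z

theorem val_of_form {X : Over S} {u v : X ⟶ G} (t : X ⟶ D.T) (hu : u ∈ unip (D := D) (-Q.l) X)
    (hv : v ∈ unip (D := D) Q.l X) : Val Q (u * (t ≫ D.i) * v) (t ≫ Q.ψ) := by
  have h1 := Q.hneg; have h2 := Q.hpos
  rw [Bruhat.negRoots_eq Q.hA] at h1
  rw [Bruhat.posRoots_eq Q.hA] at h2
  obtain ⟨y, rfl⟩ := Bruhat.exists_prod_unip (fun a => by simpa using Q.hA.ne a) Q.eneg h1 hu
  obtain ⟨x, rfl⟩ := Bruhat.exists_prod_unip Q.hA.ne Q.epos h2 hv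
  refine ⟨lift (tuple Q.n fun k => Ga.gaPt (y k)) (lift t (tuple Q.m fun k => Ga.gaPt (x k))), ?_, ?_⟩
  · refine (comp_cellMap Q.epos _).trans ?_
    rw [lift_fst, lift_snd_assoc, lift_fst, lift_snd_assoc, lift_snd, comp_prodMap, comp_prodMap,
      _root_.mul_assoc]
    simp only [← Category.assoc, tuple_proj]
    rfl
  · rw [lift_snd_assoc, lift_fst]

theorem exists_form {X : Over S} {g : X ⟶ G} {q : X ⟶ A} (h : Val Q g q) :
    ∃ (u : X ⟶ G) (t : X ⟶ D.T) (v : X ⟶ G), u ∈ unip (D := D) (-Q.l) X ∧ v ∈ unip (D := D) Q.l X ∧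
      g = u * (t ≫ D.i) * v ∧ q = t ≫ Q.ψ := by
  obtain ⟨u, t, v, hu, hv, hg⟩ := h.big
  exact ⟨u, t, v, hu, hv, hg, h.unique Q (hg ▸ val_of_form Q t hu hv)⟩

theorem val_exists {X : Over S} {g : X ⟶ G} (h : Big D Q.l g) : ∃ q, Val Q g q := by
  obtain ⟨u, t, v, hu, hv, rfl⟩ := h
  exact ⟨_, val_of_form Q t hu hv⟩

theorem Val.unip_mul {X : Over S} {g u : X ⟶ G} {q : X ⟶ A} (h : Val Q g q)
    (hu : u ∈ unip (D := D) (-Q.l) X) : Val Q (u * g) q := by
  obtain ⟨u', t, v, hu', hv, rfl, rfl⟩ := exists_form Q h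
  rw [← _root_.mul_assoc, ← _root_.mul_assoc]
  exact val_of_form Q t (mul_mem hu hu') hv

theorem Val.mul_unip {X : Over S} {g v : X ⟶ G} {q : X ⟶ A} (h : Val Q g q)
    (hv : v ∈ unip (D := D) Q.l X) : Val Q (g * v) q := by
  obtain ⟨u, t, v', hu, hv', rfl, rfl⟩ := exists_form Q h
  rw [_root_.mul_assoc]
  exact val_of_form Q t hu (mul_mem hv' hv)

theorem Val.torus_mul {X : Over S} {g : X ⟶ G} {q : X ⟶ A} (h : Val Q g q) (s : X ⟶ D.T) :
    Val Q ((s ≫ D.i) * g) ((s ≫ Q.ψ) * q) := by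
  obtain ⟨u, t, v, hu, hv, rfl, rfl⟩ := exists_form Q h
  rw [show (s ≫ D.i) * (u * (t ≫ D.i) * v) = ((s ≫ D.i) * u * (s ≫ D.i)⁻¹) * ((s * t) ≫ D.i) * v by
    rw [MonObj.mul_comp]; group, ← MonObj.mul_comp]
  exact val_of_form Q _ (Bruhat.torus_conj_unip (-Q.l) s hu) hv

theorem Val.mul_torus {X : Over S} {g : X ⟶ G} {q : X ⟶ A} (h : Val Q g q) (s : X ⟶ D.T) :
    Val Q (g * (s ≫ D.i)) (q * (s ≫ Q.ψ)) := by
  obtain ⟨u, t, v, hu, hv, rfl, rfl⟩ := exists_form Q h
  rw [show u * (t ≫ D.i) * v * (s ≫ D.i) = u * ((t * s) ≫ D.i) * ((s⁻¹ ≫ D.i) * v * (s⁻¹ ≫ D.i)⁻¹) by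
    rw [MonObj.mul_comp, GrpObj.inv_comp]; group, ← MonObj.mul_comp]
  exact val_of_form Q _ hu (Bruhat.torus_conj_unip Q.l s⁻¹ hv)

/-- One step: a simple positive or any negative root element does not change the value. -/
theorem val_step {c : D.idx} (hc : c ∈ Q.b.support ∨ Q.l (D.P.root c) < 0) {X : Over S} (x : Γ(X.left, ⊤))
    {g : X ⟶ G} {q : X ⟶ A} (h : Val Q g q) (hbig : Big D Q.l (P (D.u c) x * g)) :
    Val Q (P (D.u c) x * g) q := by
  classical
  haveI : D.P.IsCrystallographic := crys D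
  haveI := reduced_of_base Q.b
  rcases hc with hc | hc
  swap
  · exact h.unip_mul Q (root_mem_unip (by rw [AddMonoidHom.neg_apply]; omega) x)
  obtain ⟨nr, hnr, hnel⟩ := exists_realising (D := D) Q.b
  obtain ⟨m, hm, hd, hel⟩ := hnel c
  set c' := D.P.reflectionPerm c c with hc'
  have hs := sys_of_dualC hd
  haveI := isMonHom_scl (S := S) m
  haveI := Cent.isMonHom_chr (D := D) (D.P.root c)
  haveI : IsMonHom (D.u c) := (D.rootHom c).1
  haveI : IsMonHom (D.u c') := (D.rootHom c').1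
  set M := scl m ≫ D.u c' with hM
  have hlc := Bruhat.simple_pos Q.hA hc
  have hlc' : 0 < (-Q.l) (D.P.root c') := by
    rw [AddMonoidHom.neg_apply, hc', root_neg_idx, map_neg, neg_neg]; exact hlc
  obtain ⟨u, t, v, hu, hv, rfl, rfl⟩ := exists_form Q h
  obtain ⟨u₂, u₁, rfl, hu₂, hu₁⟩ := Bruhat.exists_split (l := -Q.l) (fun a => by simpa using Q.hA.ne a) (· ≠ c') hu
  obtain ⟨r, rfl⟩ := Bruhat.exists_single (c₀ := c') (p := fun a => 0 < (-Q.l) (D.P.root a) ∧ ¬a ≠ c')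
    (fun a ha => not_not.1 ha.2) (by simpa only [and_assoc] using hu₁)
  set u₃ := P (D.u c) x * u₂ * (P (D.u c) x)⁻¹ with hu₃
  have hu₃m : u₃ ∈ unip (D := D) (-Q.l) X := by
    refine Bruhat.conj_others Q.hA hc x (Subgroup.closure_mono ?_ hu₂)
    rintro h ⟨a, z, ha, hac, rfl⟩
    exact ⟨a, z, ⟨by rw [AddMonoidHom.neg_apply] at ha; omega, hac⟩, rfl⟩
  obtain ⟨m', hm'⟩ : ∃ m', res X m * m' = 1 :=
    ⟨res X ↑hm.unit⁻¹, by rw [← res_mul', hm.mul_val_inv, res_one]⟩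
  have hr : P (D.u c') r = P M (m' * r) := by rw [hM, P_scl, ← _root_.mul_assoc, hm', _root_.one_mul]
  have hprod : Big D Q.l (P (D.u c) x * P M (m' * r)) := by
    have e : P (D.u c) x * P (D.u c') r = u₃⁻¹ * (P (D.u c) x * (u₂ * P (D.u c') r * (t ≫ D.i) * v)) * v⁻¹ *
        ((t⁻¹) ≫ D.i) := by
      rw [hu₃, GrpObj.inv_comp]; group
    rw [← hr, e]
    exact ((hbig.unip_mul (inv_mem hu₃m)).mul_unip (inv_mem hv)).mul_torus _
  have hunit : IsUnit (1 + x * (m' * r)) := by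
    refine isUnit_of_points _ fun p => ?_
    have hk := isField_ptObj X p
    refine FEq.isUnit_of_ne_zero _ hk fun h0 => ?_
    have hB := big_comp_cellMap Q.hA Q.hneg Q.hpos
      (ptHom X p ≫ (exists_of_big Q.hA Q.hneg Q.hpos hprod).choose)
    rw [Category.assoc, (exists_of_big Q.hA Q.hneg Q.hpos hprod).choose_spec, MonObj.comp_mul, P_comp, P_comp] at hB
    rw [map_add, map_one, map_mul] at h0
    generalize (ptHom X p).left.appTop x = x' at hB h0
    generalize (ptHom X p).left.appTop (m' * r) = r' at hB h0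
    letI := hk.toField
    haveI := hk.nontrivial
    have hx' : x' ≠ 0 := fun h => by rw [h] at h0; simp at h0
    obtain ⟨w, rfl⟩ := isUnit_iff_ne_zero.2 hx'
    have hr' : r' = -(↑w⁻¹ : Γ((ptObj X p).left, ⊤)) := by
      linear_combination (↑w⁻¹ : Γ((ptObj X p).left, ⊤)) * h0 - r' * w.mul_inv
    have hW : Big D Q.l (Sys.W (D.u c) M w) := by
      rw [hr'] at hB
      exact hB.mul_unip (root_mem_unip hlc _)
    -- but `W` lies in the cell of the reflection
    have h1 : InCell nr Q.l [] (Sys.W (D.u c) M w) := by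
      obtain ⟨u', t', v', hu', hv', e'⟩ := hW
      refine ⟨u', (t' ≫ D.i) * v', hu',
        mul_mem (Bruhat.torus_mem_bor Q.l t') (Bruhat.unip_le_bor Q.l _ hv'), ?_⟩
      rw [e', rp, List.map_nil, List.prod_nil, MonObj.comp_one]; group
    have h2 : InCell nr Q.l [c] (Sys.W (D.u c) M w) := by
      refine ⟨1, act D (wmap D [c]) (Gm.gmPt w ≫ cochar D (D.P.coroot c).toAddMonoidHom) ≫ D.i, one_mem _,
        Bruhat.torus_mem_bor Q.l _, ?_⟩
      rw [_root_.one_mul, ← Bruhat.torus_rp hnr, rp, List.map_singleton, List.prod_singleton, hel, el_eq_W,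
        Category.assoc]
      have := hs.W_mul w (1 : Γ((ptObj X p).left, ⊤)ˣ)
      rwa [_root_.mul_one] at this
    haveI : IsAffine (ptObj X p).left := inferInstanceAs (IsAffine (Spec (X.left.residueField p)))
    have h3 := congrArg (fun f : Equiv.Perm D.idx => f c) (Bruhat.wordPerm_eq Q.hA hnr h1 h2)
    simp only [Bruhat.wordPerm_singleton] at h3
    rw [show RedSub.wordPerm D.P [] c = c from by simp [RedSub.wordPerm]] at h3
    have h4 := congrArg (fun k => Q.l (D.P.root k)) h3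
    simp only [root_neg_idx, map_neg] at h4
    omega
  have e := hs.rule x (m' * r) hunit.unit hunit.unit_spec
  rw [← hr] at e
  have key := ((val_of_form Q (X := X) (Gm.gmPt hunit.unit ≫ cochar D (D.P.coroot c).toAddMonoidHom)
    (u := P M ((m' * r) * (↑hunit.unit⁻¹ : Γ(X.left, ⊤)))) (v := P (D.u c) (x * (↑hunit.unit⁻¹ : Γ(X.left, ⊤))))
    (by rw [hM, P_scl]; exact root_mem_unip hlc' _) (root_mem_unip hlc _)).unip_mul Q hu₃m).mul_torus Q t
  rw [Q.hψ, _root_.one_mul, Category.assoc, ← e] at key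
  have key' := key.mul_unip Q hv
  convert key' using 1
  rw [hu₃]
  group

end Groth.Agent.H82.R2.CorootChar
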